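import Groth.Agent.L21.RR.Finite
import Groth.Agent.L21.RR.Twist
import Groth.Agent.L21.Nodal.Reduced
import Groth.Agent.L16.CohSupport
import Groth.Agent.L16.Devissage

/-!
Sheaves on reduced curves: fields at nonclosed points, maps zero at generic points, scalar endomorphisms.
-/

set_option autoImplicit false
set_option backward.isDefEq.respectTransparency false
set_option linter.style.haveILetI false
universe u

open CategoryTheory CategoryTheory.Limits AlgebraicGeometry TopologicalSpace Opposite

noncomputable section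

namespace Groth.L21.RedCurve

open Groth.L21.RR (st SuppClosed e0 h)
open Groth.L16.CohLinear (hmap hmap_comp)

variable {X : Scheme.{u}}

theorem maximal_of_not_isClosed [AlgebraicGeometry.IsNoetherian X] (hd : topologicalKrullDim X ≤ 1) {x : X}
    (hx : ¬ IsClosed ({x} : Set X)) (y : X) (hy : y ⤳ x) : y = x := by
  obtain ⟨z, hz, hzne⟩ : ∃ z, x ⤳ z ∧ x ≠ z := by
    by_contra hh
    push Not at hh
    exact hx (isClosed_of_closure_subset fun z hz => (hh z (specializes_iff_mem_closure.2 hz)).symm)
  exact (Groth.L21.RR.Top.spec_of_dim_le_one (X := X.toTopCat) hd y x z hy hz).resolve_right hzne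

theorem stalk_isField [AlgebraicGeometry.IsNoetherian X] [AlgebraicGeometry.IsReduced X]
    (hd : topologicalKrullDim X ≤ 1) {x : X} (hx : ¬ IsClosed ({x} : Set X)) : IsField (X.presheaf.stalk x) :=
  Groth.L21.Nodal.isField_stalk_of_maximal x (maximal_of_not_isClosed hd hx)

/-- A function vanishing at all generic points of a reduced curve vanishes. -/
theorem section_eq_zero [AlgebraicGeometry.IsReduced X]
    (hgen : ∀ z : X, ∃ w, ¬ IsClosed ({w} : Set X) ∧ w ⤳ z) {W : X.Opens} (a : Γ(X, W))
    (ha : ∀ (w : X) (hw : w ∈ W), ¬ IsClosed ({w} : Set X) → X.presheaf.germ W w hw a = 0) : a = 0 := by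
  rw [← basicOpen_eq_bot_iff, eq_bot_iff]
  intro z hz
  obtain ⟨w, hw, hwz⟩ := hgen z
  have hwb : w ∈ X.basicOpen a := hwz.mem_open (X.basicOpen a).2 hz
  have hu := (X.mem_basicOpen a w (X.basicOpen_le a hwb)).1 hwb
  rw [ha w _ hw] at hu
  exact absurd hu not_isUnit_zero

/-- A map to an invertible module vanishing at all generic points of a reduced curve vanishes. -/
theorem hom_eq_zero [AlgebraicGeometry.IsReduced X]
    (hgen : ∀ z : X, ∃ w, ¬ IsClosed ({w} : Set X) ∧ w ⤳ z) {M L : X.Modules} (hL : PicF.IsInvertible L)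
    (φ : M ⟶ L) (h : ∀ w : X, ¬ IsClosed ({w} : Set X) → ∀ v, st φ w v = 0) : φ = 0 := by
  refine Groth.L21.Mod.hom_ext_stalk fun x => ?_
  ext v
  rw [Functor.map_zero]
  obtain ⟨W₀, e, hx, he⟩ := Groth.L18.Frame.exists_frame hL x
  obtain ⟨U, hxU, s, rfl⟩ := TopCat.Presheaf.exists_germ_eq M.presheaf v
  change st φ x (M.presheaf.germ U x hxU s) = 0
  rw [Groth.L21.RR.st_germ, ← Groth.L20.ModStalk.germ_rs L (inf_le_left : U ⊓ W₀ ≤ U) ⟨hxU, hx⟩]
  obtain ⟨a, ha⟩ := he.exists_coeff (inf_le_right : U ⊓ W₀ ≤ W₀) (Groth.L18.Frame.rs L inf_le_left (φ.app U s))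
  have ha0 : a = 0 := section_eq_zero hgen a fun w hw hwn => by
    refine (Groth.L21.RR.bijective_germ_frame he hw.2).1 ?_
    dsimp only
    rw [zero_smul, ← Groth.L20.ModStalk.germ_rs L (inf_le_right : U ⊓ W₀ ≤ W₀) hw e,
      ← Groth.L20.ModStalk.germ_smul, ha, Groth.L20.ModStalk.germ_rs, ← Groth.L21.RR.st_germ φ hw.1]
    exact h w hwn _
  rw [← ha, ha0, zero_smul, map_zero]

/-- Multiplication by a global function. -/
def scal (F : X.Modules) (a : Coh.Γtop X) : F ⟶ F :=
  ⟨PresheafOfModules.homMk (Coh.smulAb F a).hom fun U r m => by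
    change Coh.resTop X U a • (r • (show F.val.obj U from m)) = r • (Coh.resTop X U a • (show F.val.obj U from m))
    rw [smul_smul, smul_smul]
    exact congrArg (fun t : X.ringCatSheaf.obj.obj U => t • (show F.val.obj U from m))
      (mul_comm (G := Γ(X, U.unop)) _ _)⟩

theorem hmap_scal (F : X.Modules) (a : Coh.Γtop X) (n : ℕ) (x : Coh.HH X F n) :
    hmap (scal F a) n x = a • x := by
  rw [Groth.L16.CohLinear.smul_apply]
  rfl

theorem scal_app (F : X.Modules) (a : Coh.Γtop X) (U : X.Opens) (m : Γ(F, U)) :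
    (scal F a).app U m = (show Γ(X, U) from Coh.resTop X (op U) a) • m := rfl

theorem st_scal (F : X.Modules) (a : Coh.Γtop X) (x : X) (v : F.presheaf.stalk x) :
    st (scal F a) x v = X.presheaf.germ ⊤ x trivial (show Γ(X, ⊤) from a) • v := by
  obtain ⟨U, hxU, s, rfl⟩ := TopCat.Presheaf.exists_germ_eq F.presheaf v
  rw [Groth.L21.RR.st_germ, scal_app, Groth.L20.ModStalk.germ_smul]
  congr 1
  exact TopCat.Presheaf.germ_res_apply X.presheaf _ _ hxU _

variable [AlgebraicGeometry.IsNoetherian X]

/-- A map whose cokernel has no first cohomology is surjective on first cohomology. -/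
theorem surjective_hmap_one_of_cokernel (hd : topologicalKrullDim X ≤ 1) {M N : X.Modules} (f : M ⟶ N)
    (hQ : Subsingleton (Coh.HH X (cokernel f) 1)) : Function.Surjective (hmap f 1) := by
  let SI : ShortComplex X.Modules :=
    ShortComplex.mk (Abelian.image.ι f) (cokernel.π f) (kernel.condition _)
  have hSI : SI.ShortExact :=
    { exact := ShortComplex.exact_of_f_is_kernel _ (kernelIsKernel (cokernel.π f)) }
  have hSK := Groth.L16.Devissage.shortExact_kernel_image f
  intro y
  obtain ⟨z, hz⟩ := (Groth.L16.CohLinear.exact_hmap_hmap hSI 1 y).1 (hQ.elim _ _)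
  obtain ⟨w, hw⟩ := (Groth.L16.CohLinear.exact_hmap_delta hSK 1 z).1
    ((Groth.L21.RR.subsingleton_HH_two hd _ 0).elim _ _)
  refine ⟨w, ?_⟩
  rw [← Abelian.image.fac f, hmap_comp]
  exact (congrArg (hmap (Abelian.image.ι f) 1) hw).trans hz

/-- An epimorphism is surjective on first cohomology. -/
theorem surjective_hmap_one_of_epi (hd : topologicalKrullDim X ≤ 1) {M N : X.Modules} (f : M ⟶ N) [Epi f] :
    Function.Surjective (hmap f 1) :=
  Groth.L21.RR.surjective_hmap_one_of_suppClosed hd f fun x _ =>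
    (Groth.L21.Mod.isZero_iff_stalk_subsingleton _).1 (isZero_cokernel_of_epi f) x

/-- A point with surjective stalk map is off the cokernel. -/
theorem subsingleton_stalk_cokernel {M N : X.Modules} (f : M ⟶ N) {x : X}
    (hf : Function.Surjective (st f x)) : Subsingleton ((cokernel f).presheaf.stalk x) := by
  have h0 : (Groth.L00.Stk.F X x).map (cokernel.π f) = 0 := by
    haveI : Epi ((Groth.L00.Stk.F X x).map f) := (ModuleCat.epi_iff_surjective _).2 hf
    refine zero_of_epi_comp ((Groth.L00.Stk.F X x).map f) ?_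
    rw [← Functor.map_comp, cokernel.condition, Functor.map_zero]
  exact ModuleCat.subsingleton_of_isZero (IsZero.of_epi_eq_zero _ h0)

end Groth.L21.RedCurve
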