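import Groth.Agent.L21.RedCurve.Core
import Groth.Agent.L16.Existence.Lemmas
import Mathlib.LinearAlgebra.FreeModule.Finite.Matrix

/-!
If every map to `F` that is surjective at a generic point is non-zero on `H¹`, then `h⁰(F) ≤ h¹(O)`.
-/

set_option autoImplicit false
set_option backward.isDefEq.respectTransparency false
set_option linter.style.haveILetI false
universe u

open CategoryTheory CategoryTheory.Limits AlgebraicGeometry TopologicalSpace Opposite

noncomputable section

namespace Groth.L21.RedCurve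

open Groth.L21.RR (st e0 e0_hmap h hk finite_HH' oneSec exists_hom_of_hh0 hom_ext_one)
open Groth.L16.CohLinear (hmap hmap_comp)

variable {X : Scheme.{u}}

/-- A class killed by the cokernel comes from the source, on a curve. -/
theorem exists_hmap_one_eq [AlgebraicGeometry.IsNoetherian X] (hd : topologicalKrullDim X ≤ 1) {M N : X.Modules}
    (f : M ⟶ N) (y : Coh.HH X N 1) (hy : hmap (cokernel.π f) 1 y = 0) : ∃ w, hmap f 1 w = y := by
  let SI : ShortComplex X.Modules :=
    ShortComplex.mk (Abelian.image.ι f) (cokernel.π f) (kernel.condition _)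
  have hSI : SI.ShortExact :=
    { exact := ShortComplex.exact_of_f_is_kernel _ (kernelIsKernel (cokernel.π f)) }
  obtain ⟨z, hz⟩ := (Groth.L16.CohLinear.exact_hmap_hmap hSI 1 y).1 hy
  obtain ⟨w, hw⟩ := surjective_hmap_one_of_epi hd (Abelian.factorThruImage f) z
  refine ⟨w, ?_⟩
  rw [← Abelian.image.fac f, hmap_comp]
  exact (congrArg (hmap (Abelian.image.ι f) 1) hw).trans hz

variable (k : Type u) [Field k] [X.Over (Spec (CommRingCat.of k))] [IsProper (X ↘ Spec (CommRingCat.of k))]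

omit [IsProper (X ↘ Spec (CommRingCat.of k))] in
/-- Sections act linearly on `H¹`. -/
theorem exists_pairing (M : X.Modules) :
    ∃ (φ : Coh.HH X M 0 → (Coh.structureModule X ⟶ M))
      (P : Coh.HH X M 0 →ₗ[k] (Coh.HH X (Coh.structureModule X) 1 →ₗ[k] Coh.HH X M 1)),
      (∀ x, φ x = 0 → x = 0) ∧ ∀ x z, P x z = hmap (φ x) 1 z := by
  let one0 : Coh.HH X (Coh.structureModule X) 0 := (e0 _).symm (oneSec X)
  choose φ hφ using fun x : Coh.HH X M 0 => exists_hom_of_hh0 x
  have hφ0 : ∀ x, hmap (φ x) 0 one0 = x := fun x => (e0 M).injective (by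
    rw [e0_hmap, AddEquiv.apply_symm_apply, hφ x])
  have huniq : ∀ (x : Coh.HH X M 0) (ψ : Coh.structureModule X ⟶ M), hmap ψ 0 one0 = x → φ x = ψ :=
    fun x ψ hψ => hom_ext_one (by
      rw [hφ x, ← hψ, e0_hmap, AddEquiv.apply_symm_apply])
  refine ⟨φ,
    { toFun := fun x => hk k (φ x) 1
      map_add' := fun x x' => LinearMap.ext fun z => by
        have h : φ (x + x') = φ x + φ x' := huniq _ _ (by rw [Groth.L21.RR.hmap_add, hφ0, hφ0])
        change hmap (φ (x + x')) 1 z = hmap (φ x) 1 z + hmap (φ x') 1 z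
        rw [h, Groth.L21.RR.hmap_add]
      map_smul' := fun c x => LinearMap.ext fun z => by
        let ψ : Coh.structureModule X ⟶ M :=
          scal (Coh.structureModule X) (Coh.toGlobal (X ↘ Spec (CommRingCat.of k)) c) ≫ φ x
        have hc : ∀ (n : ℕ) (z : Coh.HH X (Coh.structureModule X) n), hmap ψ n z = c • hmap (φ x) n z := by
          intro n z
          refine (hmap_comp _ _ n z).trans ?_
          rw [hmap_scal]
          exact map_smul (hk k (φ x) n) c z
        have h : φ (c • x) = ψ := huniq _ _ (by rw [hc, hφ0])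
        change hmap (φ (c • x)) 1 z = c • hmap (φ x) 1 z
        rw [h, hc] }, fun x hx => ?_, fun x z => rfl⟩
  rw [← hφ0 x, hx, Groth.L21.RR.hmap_zero]

open Classical in
/-- If generically surjective maps to `F` are non-zero on `H¹`, then `h⁰(F) ≤ h¹(O)`. -/
theorem h0_le_genus_of_ne_zero [AlgebraicGeometry.IsReduced X] (hd : topologicalKrullDim X ≤ 1)
    (hgen : ∀ z : X, ∃ w, ¬ IsClosed ({w} : Set X) ∧ w ⤳ z) {F L : X.Modules} (hL : PicF.IsInvertible L)
    (hF : Coh.IsCoh F) (u : F ⟶ L) [Mono u]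
    (hmin : ∀ (M : X.Modules) (φ : M ⟶ F), Coh.IsCoh M →
      (∃ η : X, ¬ IsClosed ({η} : Set X) ∧ Function.Surjective (st φ η)) → ∃ w, hmap φ 1 w ≠ 0) :
    h k 0 F ≤ h k 1 (Coh.structureModule X) := by
  haveI := Groth.L21.RR.isNoetherian_of_proper (X := X) k
  haveI := finite_HH' k hF 1
  haveI := finite_HH' k hF 0
  have hO := Groth.L16.CohClosedPush.isCoh_structure (X := X)
  haveI := finite_HH' k hO 1
  by_contra hlt
  rw [not_le] at hlt
  set g := h k 1 (Coh.structureModule X) with hg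
  set d := h k 1 F with hdd
  obtain ⟨φ, P, hφ0, hP⟩ := exists_pairing k F
  let b := Module.finBasisOfFinrankEq k (Coh.HH X F 1) hdd.symm
  let f : Fin d → Module.Dual k (Coh.HH X F 1) := fun m => b.coord m
  let Λ : (Fin (g * d + 1) → Coh.HH X F 0) →ₗ[k]
      (Fin (g * d + d) → Module.Dual k (Coh.HH X (Coh.structureModule X) 1)) :=
    LinearMap.pi fun q => ∑ i : Fin (g * d + 1), ∑ m : Fin d,
      if (i : ℕ) + m = q then (LinearMap.compRight k (f m)) ∘ₗ P ∘ₗ LinearMap.proj i else 0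
  have hker : LinearMap.ker Λ ≠ ⊥ := by
    refine LinearMap.ker_ne_bot_of_finrank_lt ?_
    simp only [Module.finrank_pi_fintype, Subspace.dual_finrank_eq, Finset.sum_const, Finset.card_univ,
      Fintype.card_fin, smul_eq_mul]
    rw [show Module.finrank k (Coh.HH X (Coh.structureModule X) 1) = g from rfl,
      show Module.finrank k (Coh.HH X F 0) = h k 0 F from rfl]
    calc (g * d + d) * g < (g * d + 1) * (g + 1) := by nlinarith
      _ ≤ (g * d + 1) * h k 0 F := Nat.mul_le_mul_left _ hlt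
  obtain ⟨v, hv, hv0⟩ := Submodule.exists_mem_ne_zero_of_ne_bot hker
  rw [LinearMap.mem_ker] at hv
  let s : ℤ → (Coh.structureModule X ⟶ F) := fun q =>
    if hq : ∃ i : Fin (g * d + 1), ((i : ℕ) : ℤ) = q then φ (v hq.choose) else 0
  have hs : ∀ (i : Fin (g * d + 1)), s (i : ℕ) = φ (v i) := fun i => by
    have hq : ∃ j : Fin (g * d + 1), ((j : ℕ) : ℤ) = ((i : ℕ) : ℤ) := ⟨i, rfl⟩
    simp only [s, dif_pos hq]
    rw [show hq.choose = i from Fin.ext (by exact_mod_cast hq.choose_spec)]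
  have hcond : ∀ (q : ℤ) (z : Coh.HH X (Coh.structureModule X) 1),
      ∑ m : Fin d, f m (hmap (s (q - (m : ℕ))) 1 z) = 0 := fun q z => by
    by_cases hq : ∃ q' : Fin (g * d + d), ((q' : ℕ) : ℤ) = q
    · obtain ⟨q', rfl⟩ := hq
      have h0 := LinearMap.congr_fun (congrFun hv q') z
      simp only [Λ, LinearMap.pi_apply, LinearMap.sum_apply, Pi.zero_apply, LinearMap.zero_apply] at h0
      rw [Finset.sum_comm] at h0
      refine (Finset.sum_congr rfl fun m _ => ?_).trans h0
      by_cases hi : ∃ i : Fin (g * d + 1), ((i : ℕ) : ℤ) = ((q' : ℕ) : ℤ) - (m : ℕ)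
      · obtain ⟨i, hi⟩ := hi
        rw [Finset.sum_eq_single i (fun j _ hj => by
          rw [if_neg fun e => hj (Fin.ext (by omega))]
          rfl) (fun hh => absurd (Finset.mem_univ i) hh), if_pos (by omega), ← hi, hs i]
        exact congrArg (f m) (hP (v i) z).symm
      · rw [show s (((q' : ℕ) : ℤ) - (m : ℕ)) = 0 by simp only [s, dif_neg hi], Groth.L21.RR.hmap_zero, map_zero,
          Finset.sum_eq_zero fun j _ => by
            rw [if_neg fun e => hi ⟨j, by omega⟩]
            rfl]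
    · refine Finset.sum_eq_zero fun m _ => ?_
      have hi : ¬ ∃ i : Fin (g * d + 1), ((i : ℕ) : ℤ) = q - (m : ℕ) := by
        rintro ⟨i, hi⟩
        exact hq ⟨⟨(i : ℕ) + m, by omega⟩, by push_cast; omega⟩
      rw [show s (q - (m : ℕ)) = 0 by simp only [s, dif_neg hi], Groth.L21.RR.hmap_zero, map_zero]
  -- a generic point where the family is nonzero, and its degree there
  obtain ⟨η, hη, hnz⟩ : ∃ η : X, ¬ IsClosed ({η} : Set X) ∧ ∃ i w, st (φ (v i)) η w ≠ 0 := by
    by_contra hall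
    push Not at hall
    refine hv0 (funext fun i => hφ0 (v i) (zero_of_comp_mono u (hom_eq_zero hgen hL _ fun w hw z => ?_)))
    rw [Groth.L21.RR.st_comp, hall w hw i z, map_zero]
  let T : Finset (Fin (g * d + 1)) := Finset.univ.filter fun i => ∃ w, st (φ (v i)) η w ≠ 0
  have hT : T.Nonempty := by
    obtain ⟨i, hi⟩ := hnz
    exact ⟨i, Finset.mem_filter.2 ⟨Finset.mem_univ _, hi⟩⟩
  let D := T.max' hT
  obtain ⟨w₀, hw₀⟩ := (Finset.mem_filter.1 (T.max'_mem hT)).2
  have hsurD : Function.Surjective (st (s (D : ℕ)) η) := by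
    rw [hs D]
    exact surjective_st_of_ne_zero hd hL u _ hη w₀ hw₀
  have hhigh : ∀ q : ℤ, ((D : ℕ) : ℤ) < q → ∀ w, st (s q) η w = 0 := fun q hq w => by
    by_cases hi : ∃ i : Fin (g * d + 1), ((i : ℕ) : ℤ) = q
    · obtain ⟨i, rfl⟩ := hi
      rw [hs i]
      by_contra hne
      have := T.le_max' i (Finset.mem_filter.2 ⟨Finset.mem_univ _, w, hne⟩)
      exact absurd this (not_le.2 (show (D : ℕ) < i from by exact_mod_cast hq))
    · rw [show s q = 0 by simp only [s, dif_neg hi], st, Functor.map_zero]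
      rfl
  -- the convolution by the family
  let n := d + 1
  let N := 2 * d + 1
  let A : X.Modules := ⨁ fun _ : Fin n => Coh.structureModule X
  let B : X.Modules := ⨁ fun _ : Fin N => F
  let Φ : A ⟶ B := biproduct.matrix fun (j : Fin n) (p : Fin N) => s ((D : ℕ) + (p : ℕ) - (j : ℕ))
  have hΦ : ∀ (j : Fin n) (p : Fin N),
      biproduct.ι (fun _ : Fin n => Coh.structureModule X) j ≫ Φ ≫ biproduct.π (fun _ : Fin N => F) p =
        s ((D : ℕ) + (p : ℕ) - (j : ℕ)) := fun j p => by simp [Φ]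
  have htri : ∀ (p : ℕ) (hp : p < n) (w : F.presheaf.stalk η),
      st (biproduct.ι (fun _ : Fin N => F) ⟨p, by omega⟩) η w ∈ LinearMap.range (st Φ η) := by
    intro p
    induction p using Nat.strong_induction_on with
    | _ p ih =>
      intro hp w
      obtain ⟨c, hc⟩ := hsurD w
      have hsum : st (biproduct.ι (fun _ : Fin n => Coh.structureModule X) ⟨p, hp⟩ ≫ Φ) η c =
          ∑ p' : Fin N, st (biproduct.ι (fun _ : Fin N => F) p') η
            (st (s ((D : ℕ) + (p' : ℕ) - p)) η c) := by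
        conv_lhs => rw [← Category.comp_id (biproduct.ι _ _ ≫ Φ), ← biproduct.total, Preadditive.comp_sum,
          Groth.L21.RR.st_sum]
        refine Finset.sum_congr rfl fun p' _ => ?_
        rw [← Groth.L21.RR.st_comp, ← hΦ ⟨p, hp⟩ p']
        simp only [Category.assoc]
        rfl
      have hrest : ∑ p' ∈ Finset.univ.erase (⟨p, by omega⟩ : Fin N), st (biproduct.ι (fun _ : Fin N => F) p') η
          (st (s ((D : ℕ) + (p' : ℕ) - p)) η c) ∈ LinearMap.range (st Φ η) := by
        refine Submodule.sum_mem _ fun p' hp' => ?_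
        have hne : (p' : ℕ) ≠ p := fun e => (Finset.mem_erase.1 hp').1 (Fin.ext e)
        rcases lt_or_gt_of_ne hne with hlt' | hgt
        · exact ih p' hlt' (by omega) _
        · rw [hhigh _ (by omega), map_zero]
          exact Submodule.zero_mem _
      have htot : st (biproduct.ι (fun _ : Fin n => Coh.structureModule X) ⟨p, hp⟩ ≫ Φ) η c ∈
          LinearMap.range (st Φ η) := ⟨_, (Groth.L21.RR.st_comp _ _ η c).symm⟩
      rw [hsum, ← Finset.add_sum_erase Finset.univ _ (Finset.mem_univ (⟨p, by omega⟩ : Fin N))] at htot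
      have := (Submodule.add_mem_iff_left _ hrest).1 htot
      simpa [hc] using this
  let ιd := biproduct.ι (fun _ : Fin N => F) (⟨d, by omega⟩ : Fin N)
  let ψ : F ⟶ cokernel Φ := ιd ≫ cokernel.π Φ
  have hA : Coh.IsCoh A := Groth.L16.CohSupport.isCoh_of_iso (biproduct.isoCoproduct _).symm
    (Groth.L16.Existence.isCoh_sigma _ fun _ => hO)
  have hB : Coh.IsCoh B := Groth.L16.CohSupport.isCoh_of_iso (biproduct.isoCoproduct _).symm
    (Groth.L16.Existence.isCoh_sigma _ fun _ => hF)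
  have hM : Coh.IsCoh (kernel ψ) :=
    (Groth.L16.CohKernel.isCoh_kernel_cokernel hF (Groth.L16.CohKernel.isCoh_kernel_cokernel hA hB Φ).2 ψ).1
  have hsurM : Function.Surjective (st (kernel.ι ψ) η) := fun w => by
    refine (ShortComplex.moduleCat_exact_iff _).1 ((ShortComplex.exact_kernel ψ).map (Groth.L00.Stk.F X η)) w ?_
    obtain ⟨z, hz⟩ := htri d (Nat.lt_succ_self d) w
    change st ψ η w = 0
    rw [show ψ = ιd ≫ cokernel.π Φ from rfl, Groth.L21.RR.st_comp, ← hz, ← Groth.L21.RR.st_comp,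
      cokernel.condition, st, Functor.map_zero]
    rfl
  obtain ⟨x, hx⟩ := hmin _ (kernel.ι ψ) hM ⟨η, hη, hsurM⟩
  set y := hmap (kernel.ι ψ) 1 x
  obtain ⟨z, hz⟩ := exists_hmap_one_eq hd Φ (hmap ιd 1 y) (by
    rw [← hmap_comp, ← hmap_comp]
    change hmap (kernel.ι ψ ≫ ψ) 1 x = 0
    rw [kernel.condition, Groth.L21.RR.hmap_zero])
  obtain ⟨m₀, hm₀⟩ : ∃ m₀ : Fin d, f m₀ y ≠ 0 := by
    by_contra hall
    push Not at hall
    exact hx (b.forall_coord_eq_zero_iff.1 hall)
  refine hm₀ ?_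
  have hidx : ∀ m : Fin d, d + (m₀ : ℕ) - m < N := fun m => by omega
  -- the linear form detecting the coefficient
  have hL0 : ∑ m : Fin d, f m (hmap (biproduct.π (fun _ : Fin N => F) ⟨_, hidx m⟩) 1 (hmap ιd 1 y)) = f m₀ y := by
    rw [Finset.sum_eq_single m₀ (fun m _ hm => ?_) (fun hh => absurd (Finset.mem_univ m₀) hh)]
    · rw [← hmap_comp, show ιd ≫ biproduct.π (fun _ : Fin N => F) ⟨_, hidx m₀⟩ = 𝟙 F from ?_,
        Groth.L16.CohLinear.hmap_id]
      simp only [ιd]
      rw [show (⟨_, hidx m₀⟩ : Fin N) = ⟨d, by omega⟩ from Fin.ext (by simp)]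
      exact biproduct.ι_π_self _ _
    · rw [← hmap_comp, show ιd ≫ biproduct.π (fun _ : Fin N => F) ⟨_, hidx m⟩ = 0 from
        biproduct.ι_π_ne _ fun e => hm (Fin.ext (by have := congrArg Fin.val e; dsimp only at this; omega)),
        Groth.L21.RR.hmap_zero, map_zero]
  rw [← hL0, ← hz]
  have hz' : z = ∑ j : Fin n, hmap (biproduct.π (fun _ : Fin n => Coh.structureModule X) j ≫
      biproduct.ι (fun _ : Fin n => Coh.structureModule X) j) 1 z := by
    rw [← Groth.L21.RR.hmap_sum', biproduct.total, Groth.L16.CohLinear.hmap_id]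
  rw [Finset.sum_congr rfl fun m (_ : m ∈ Finset.univ) => show
    f m (hmap (biproduct.π (fun _ : Fin N => F) ⟨_, hidx m⟩) 1 (hmap Φ 1 z)) =
      ∑ j : Fin n, f m (hmap (s (((D : ℕ) : ℤ) + d + (m₀ : ℕ) - (j : ℕ) - (m : ℕ))) 1
        (hmap (biproduct.π (fun _ : Fin n => Coh.structureModule X) j) 1 z)) from ?_, Finset.sum_comm]
  · exact Finset.sum_eq_zero fun j _ => hcond _ _
  rw [← hmap_comp]
  conv_lhs => rw [hz']
  rw [show ∀ (e : A ⟶ F) (w : Fin n → Coh.HH X A 1), hmap e 1 (∑ j, w j) = ∑ j, hmap e 1 (w j) from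
    fun e w => map_sum (hk k e 1) w _, map_sum]
  refine Finset.sum_congr rfl fun j _ => congrArg (f m) ?_
  rw [← hmap_comp, ← hmap_comp, Category.assoc, hΦ j ⟨_, hidx m⟩]
  congr 3
  have : (m : ℕ) ≤ d + m₀ := by omega
  push_cast [Nat.cast_sub this]
  ring

end Groth.L21.RedCurve
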