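import Groth.Agent.L21.RedCurve.Apply
import Groth.Agent.L21.RedCurve.Sections

/-!
Degree at least `2g` on every connected subcurve of a reduced curve implies global generation.
-/

set_option autoImplicit false
set_option backward.isDefEq.respectTransparency false
set_option linter.style.haveILetI false
universe u

open CategoryTheory CategoryTheory.Limits AlgebraicGeometry TopologicalSpace Opposite

noncomputable section

namespace Groth.L21.RedCurve

open Groth.L21.RR (st SuppClosed e0 e0_hmap h hk finite_HH' oneSec twι twπ tensorStalkEquiv)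
open Groth.L16.CohLinear (hmap hmap_comp)
open Groth.L17.ClosedPush (c₀ c₀_bijective subsingleton_stalk_push)

variable {X : Scheme.{u}}

/-- The function `1` on a clopen set and `0` off it. -/
theorem exists_clopen_section (U : Set X) (hU : IsClopen U) :
    ∃ e : Γ(X, ⊤), ∀ x : X, (x ∈ U → X.presheaf.germ ⊤ x trivial e = 1) ∧
      (x ∉ U → X.presheaf.germ ⊤ x trivial e = 0) := by
  let U₁ : X.Opens := ⟨U, hU.2⟩
  let U₂ : X.Opens := ⟨Uᶜ, hU.1.isOpen_compl⟩
  let W : ULift.{u} Bool → X.Opens := fun b => cond b.down U₁ U₂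
  let O := Coh.structureModule X
  let s : ∀ b, Γ(O, W b) := fun b =>
    match b with
    | ⟨true⟩ => (show Γ(O, W (ULift.up.{u} true)) from (1 : Γ(X, U₁)))
    | ⟨false⟩ => (show Γ(O, W (ULift.up.{u} false)) from (0 : Γ(X, U₂)))
  have h12 : U₁ ⊓ U₂ = ⊥ := Opens.ext (Set.inter_compl_self U)
  have h21 : U₂ ⊓ U₁ = ⊥ := Opens.ext (Set.compl_inter_self U)
  haveI : Subsingleton Γ(X, U₁ ⊓ U₂) := by rw [h12]; infer_instance
  haveI : Subsingleton Γ(X, U₂ ⊓ U₁) := by rw [h21]; infer_instance
  obtain ⟨e, he⟩ := Groth.L16.HomSh.exists_glue O W (fun b => (le_top : W b ≤ ⊤))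
    (fun x _ => (em (x ∈ U)).elim (fun h => Opens.mem_iSup.2 ⟨⟨true⟩, h⟩) fun h => Opens.mem_iSup.2 ⟨⟨false⟩, h⟩) s
    (fun i j => by
      obtain ⟨i⟩ := i
      obtain ⟨j⟩ := j
      cases i <;> cases j
      · rfl
      · exact Subsingleton.elim (α := Γ(X, U₂ ⊓ U₁)) _ _
      · exact Subsingleton.elim (α := Γ(X, U₁ ⊓ U₂)) _ _
      · rfl)
  let e' : Γ(X, ⊤) := e
  refine ⟨e', fun x => ⟨fun hx => ?_, fun hx => ?_⟩⟩
  · have e1 : X.presheaf.map (homOfLE (le_top : U₁ ≤ ⊤)).op e' = 1 := he (ULift.up.{u} true)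
    rw [← TopCat.Presheaf.germ_res_apply X.presheaf (homOfLE (le_top : U₁ ≤ ⊤)) x hx e', e1, map_one]
  · have e2 : X.presheaf.map (homOfLE (le_top : U₂ ≤ ⊤)).op e' = 0 := he (ULift.up.{u} false)
    rw [← TopCat.Presheaf.germ_res_apply X.presheaf (homOfLE (le_top : U₂ ≤ ⊤)) x hx e', e2, map_zero]

theorem scal_comp {M N : X.Modules} (f : M ⟶ N) (a : Coh.Γtop X) : scal M a ≫ f = f ≫ scal N a := by
  refine Groth.L21.Mod.hom_ext_stalk fun x => ?_
  ext v
  change st (scal M a ≫ f) x v = st (f ≫ scal N a) x v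
  rw [Groth.L21.RR.st_comp, Groth.L21.RR.st_comp, st_scal, st_scal, map_smul]

variable (k : Type u) [Field k] [X.Over (Spec (CommRingCat.of k))] [IsProper (X ↘ Spec (CommRingCat.of k))]

/-- An epimorphism between modules supported at closed points does not increase `h⁰`. -/
theorem h0_le_of_epi {M N : X.Modules} (hM : Coh.IsCoh M) (hs : SuppClosed M) (f : M ⟶ N) [Epi f] :
    h k 0 N ≤ h k 0 M := by
  haveI := Groth.L21.RR.isNoetherian_of_proper (X := X) k
  haveI := finite_HH' k hM 0
  refine LinearMap.finrank_le_finrank_of_surjective (f := hk k f 0) fun z => ?_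
  have hK : (ShortComplex.mk (kernel.ι f) f (kernel.condition f)).ShortExact :=
    { exact := ShortComplex.exact_kernel f }
  have hker : SuppClosed (kernel f) := fun x hx =>
    @Function.Injective.subsingleton _ _ _
      ((Groth.L21.Mod.mono_iff_stalk_injective (kernel.ι f)).1 inferInstance x) (hs x hx)
  exact (Groth.L16.CohLinear.exact_hmap_delta hK 0 z).1
    ((Groth.L21.RR.subsingleton_HH_of_suppClosed hker 0).elim _ _)

variable [AlgebraicGeometry.IsReduced X]

theorem isGloballyGenerated_of_deg_subcurves (hd : topologicalKrullDim X ≤ 1) {L : X.Modules}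
    (hL : PicF.IsInvertible L)
    (hdeg : ∀ J : X.IdealSheafData, AlgebraicGeometry.IsReduced J.subscheme → ConnectedSpace J.subscheme →
      topologicalKrullDim J.subscheme = 1 →
      2 * (@h J.subscheme k _ ⟨J.subschemeι ≫ (X ↘ Spec (CommRingCat.of k))⟩ 1
          (Coh.structureModule J.subscheme) : ℤ) ≤
        @Curv2.deg k _ J.subscheme ⟨J.subschemeι ≫ (X ↘ Spec (CommRingCat.of k))⟩
          ((Scheme.Modules.pullback J.subschemeι).obj L) 1) :
    Curv2.IsGloballyGenerated L := by
  haveI := Groth.L21.RR.isNoetherian_of_proper (X := X) k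
  haveI : X.IsSeparated := ⟨by rw [← terminal.comp_from (X ↘ Spec (CommRingCat.of k))]; infer_instance⟩
  have hLc := Groth.L16.ProperFinite.isCoh_of_isInvertible hL
  haveI : Coh.IsQCoh L := hLc.1
  -- no `H¹`
  have hH1 : Subsingleton (Coh.HH X L 1) := by
    by_contra hns
    have hu : SuppClosed (cokernel (𝟙 L)) := fun x _ =>
      (Groth.L21.Mod.isZero_iff_stalk_subsingleton _).1 (isZero_cokernel_of_epi (𝟙 L)) x
    obtain ⟨J, C, χ, hred, hconn, hdim, -, hχ, hχ0, hb⟩ :=
      exists_subcurve k hd hL hLc (𝟙 L) hu (not_subsingleton_iff_nontrivial.1 hns)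
    have hz : IsZero ((Scheme.Modules.pushforward J.subschemeι).obj C) := by
      rw [Category.id_comp] at hχ0
      haveI := hχ
      rw [IsZero.iff_id_eq_zero, ← cancel_epi χ, hχ0, zero_comp, zero_comp]
    have h0 : h k 0 ((Scheme.Modules.pushforward J.subschemeι).obj C) = 0 :=
      Groth.L21.RR.h_eq_zero_of_subsingleton k (subsingleton_of_forall_eq 0 fun t => by
        rw [← Groth.L16.CohLinear.hmap_id 0 t, (IsZero.iff_id_eq_zero _).1 hz, Groth.L21.RR.hmap_zero])
    letI : J.subscheme.Over (Spec (CommRingCat.of k)) := ⟨J.subschemeι ≫ (X ↘ Spec (CommRingCat.of k))⟩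
    haveI : IsProper (J.subscheme ↘ Spec (CommRingCat.of k)) :=
      inferInstanceAs (IsProper (J.subschemeι ≫ (X ↘ Spec (CommRingCat.of k))))
    haveI := Groth.L21.RR.isNoetherian_of_proper (X := J.subscheme) k
    haveI := finite_HH' k (Groth.L16.CohClosedPush.isCoh_structure (X := J.subscheme)) 0
    haveI : Nonempty (⊤ : J.subscheme.Opens) := ⟨⟨hconn.toNonempty.some, trivial⟩⟩
    haveI : Nontrivial (Coh.HH J.subscheme (Coh.structureModule J.subscheme) 0) :=
      (e0 (Coh.structureModule J.subscheme)).toEquiv.nontrivial (β := Γ(J.subscheme, ⊤))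
    have hpos : 0 < h k 0 (Coh.structureModule J.subscheme) := Module.finrank_pos
    have h1 := hdeg J hred hconn hdim
    rw [h0, Groth.L21.RR.euler_eq k hdim.le] at hb
    omega
  refine Groth.L21.RR.isGloballyGenerated_of_sections fun x => ?_
  obtain ⟨z, hz, hxz⟩ := Groth.L21.RR.exists_closed_specialization x
  suffices hs : ∃ φ : Coh.structureModule X ⟶ L, Function.Surjective (st φ z) from
    hs.imp fun φ hφ => Groth.L21.RR.surjective_st_of_specializes hL hxz hφ
  by_contra hno
  push Not at hno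
  set I := Scheme.IdealSheafData.vanishingIdeal (⟨{z}, hz⟩ : Closeds X) with hI
  have hIs : topologicalKrullDim (I.support : Set X) ≤ 0 := by
    rw [hI, Groth.L18.support_vanishingIdeal]
    haveI : DiscreteTopology ({z} : Set X) := inferInstance
    exact topologicalKrullDim_zero_of_discreteTopology ({z} : Set X)
  have hQs := Groth.L21.RR.suppClosed_tensor hL (Groth.L21.RR.suppClosed_quotMod I hIs)
  have hex := Groth.L21.RR.shortExact_tw I hL
  have hQoff : ∀ y : X, y ≠ z → Subsingleton ((CohB1.tensorMod L (ClSub.quotMod I)).presheaf.stalk y) :=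
    fun y hy => by
      obtain ⟨e', he'⟩ := Groth.L21.RR.exists_frame_stalk hL y
      haveI := Groth.L21.RR.subsingleton_stalk_quotMod I (x := y) (by
        rw [hI, Groth.L18.support_vanishingIdeal]; exact hy)
      exact (tensorStalkEquiv _ he').toEquiv.subsingleton
  -- all sections vanish in `L ⊗ κ(z)`
  have hall : ∀ t : Coh.HH X L 0, hmap (twπ L I) 0 t = 0 := fun t => by
    obtain ⟨φ, hφ⟩ := Groth.L21.RR.exists_hom_of_hh0 t
    obtain ⟨W, e, hzW, he⟩ := Groth.L18.Frame.exists_frame hL z
    obtain ⟨a, ha⟩ := Groth.L21.RR.exists_coeff_st he φ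
    by_contra ht
    refine hno φ ((Groth.L21.RR.surjective_st_iff (Groth.L21.RR.bijective_germ_frame he hzW) φ (ha z hzW).symm).2 ?_)
    by_contra hu
    apply ht
    apply (e0 _).injective
    rw [e0_hmap, map_zero, ← hφ]
    refine Groth.L21.RR.germ_ext fun y hy => ?_
    rw [map_zero]
    rcases eq_or_ne y z with rfl | hne
    · rw [← Groth.L21.RR.st_germ (twπ L I) hy]
      change st (twπ L I) y (L.presheaf.germ ⊤ y hy (φ.app ⊤ (oneSec X))) = 0
      rw [← Groth.L20.ModStalk.germ_rs L (le_top : W ≤ ⊤) hzW, ← Groth.L21.RR.st_one φ y hzW, ha y hzW, map_smul]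
      haveI : IsSimpleModule (X.presheaf.stalk y) ((CohB1.tensorMod L (ClSub.quotMod I)).presheaf.stalk y) :=
        haveI := Groth.L21.RR.isSimple_quot_point hz
        IsSimpleModule.congr (tensorStalkEquiv (ClSub.quotMod I) (Groth.L21.RR.bijective_germ_frame he hzW))
      by_contra hne0
      obtain ⟨c, hc⟩ := IsSimpleModule.toSpanSingleton_surjective (X.presheaf.stalk y) hne0
        (st (twπ L I) y (L.presheaf.germ W y hzW e))
      rw [LinearMap.toSpanSingleton_apply] at hc
      rw [smul_smul] at hc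
      have h3 : (1 - c * X.presheaf.germ W y hzW a) • st (twπ L I) y (L.presheaf.germ W y hzW e) = 0 := by
        rw [sub_smul, hc]
        exact sub_eq_zero.2 (one_smul _ _)
      have hmem : c * X.presheaf.germ W y hzW a ∈ IsLocalRing.maximalIdeal (X.presheaf.stalk y) :=
        Ideal.mul_mem_left _ _ hu
      obtain ⟨d, hd'⟩ := ((IsLocalRing.isUnit_or_isUnit_one_sub_self _).resolve_left hmem).exists_left_inv
      have h4 := congrArg (d • ·) h3
      simp only [smul_smul, hd', one_smul, smul_zero] at h4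
      exact hne0 (by rw [h4, smul_zero])
    · haveI := hQoff y hne
      exact Subsingleton.elim _ _
  set F := CohB1.tensorMod L (ClSub.idealMod I) with hFdef
  haveI : Mono (twι L I) := hex.mono_f
  have hF : Coh.IsCoh F := Groth.L21.RR.isCoh_twist I hL
  have hQc := Groth.L21.RR.isCoh_twistQuot I hL
  haveI := finite_HH' k hQc 0
  haveI := finite_HH' k hF 1
  set d := h k 0 (CohB1.tensorMod L (ClSub.quotMod I)) with hdd
  have hd0 : 0 < d := by
    haveI : Nontrivial (Coh.HH X (CohB1.tensorMod L (ClSub.quotMod I)) 0) := by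
      haveI := (Groth.L21.RR.isSimple_quot_point hz).nontrivial
      obtain ⟨v, hv⟩ := exists_ne (0 : (ClSub.quotMod I).presheaf.stalk z)
      obtain ⟨e, he⟩ := Groth.L21.RR.exists_frame_stalk hL z
      obtain ⟨q, hq, -⟩ := Groth.L21.RR.exists_section_germ hQs z ((tensorStalkEquiv _ he).symm v)
      refine nontrivial_of_ne ((e0 _).symm q) 0 fun hq0 => hv ?_
      have hq0' : q = 0 := (e0 _).symm.injective (hq0.trans (map_zero _).symm)
      rw [hq0', map_zero] at hq
      exact (tensorStalkEquiv _ he).symm.injective (hq.symm.trans (map_zero _).symm)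
    exact Module.finrank_pos
  have hdF : d ≤ h k 1 F := by
    let δ : Coh.HH X (CohB1.tensorMod L (ClSub.quotMod I)) 0 →ₗ[k] Coh.HH X F 1 :=
      { toFun := Groth.L16.CohLinear.delta hex 0
        map_add' := map_add _
        map_smul' := fun c w =>
          map_smul (Groth.L16.CohLinear.delta hex 0) (Coh.toGlobal (X ↘ Spec (CommRingCat.of k)) c) w }
    refine LinearMap.finrank_le_finrank_of_injective (f := δ) ((injective_iff_map_eq_zero δ).2 fun w hw => ?_)
    obtain ⟨t, rfl⟩ := (Groth.L16.CohLinear.exact_hmap_delta hex 0 w).1 hw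
    exact hall t
  let eQ : cokernel (twι L I) ≅ CohB1.tensorMod L (ClSub.quotMod I) :=
    (cokernelIsCokernel (twι L I)).coconePointUniqueUpToIso hex.gIsCokernel
  have hu : SuppClosed (cokernel (twι L I)) := fun y hy =>
    @Equiv.subsingleton _ _ ((Groth.L00.Stk.F X y).mapIso eQ).toLinearEquiv.toEquiv (hQs y hy)
  obtain ⟨J, FY, uY, hred, hdY, hgen, hmono, hFY, hnt, hsupp, hmin, ψ, hψ, -⟩ :=
    exists_minimal k hd hL hF (twι L I) hu d hd0 hdF
  haveI := hred
  haveI := hmono
  haveI := hψ
  letI : J.subscheme.Over (Spec (CommRingCat.of k)) := ⟨J.subschemeι ≫ (X ↘ Spec (CommRingCat.of k))⟩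
  haveI : IsProper (J.subscheme ↘ Spec (CommRingCat.of k)) :=
    inferInstanceAs (IsProper (J.subschemeι ≫ (X ↘ Spec (CommRingCat.of k))))
  haveI := Groth.L21.RR.isNoetherian_of_proper (X := J.subscheme) k
  let ι := J.subschemeι
  let LY := (Scheme.Modules.pullback ι).obj L
  have hLY : PicF.IsInvertible LY := Groth.L18.Ample.isInvertible_pullback ι hL
  have hLYc := Groth.L16.ProperFinite.isCoh_of_isInvertible hLY
  haveI : Coh.IsQCoh LY := hLYc.1
  have hC : Coh.IsCoh (cokernel uY) := (Groth.L16.CohKernel.isCoh_kernel_cokernel hFY hLYc uY).2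
  haveI : Coh.IsQCoh (cokernel uY) := hC.1
  haveI := finite_HH' k hFY 1
  -- the obstruction lives over `z`
  have hCoff : ∀ w : J.subscheme, ι w ≠ z → Subsingleton ((cokernel uY).presheaf.stalk w) := fun w hw => by
    have h1 : Subsingleton ((cokernel (twι L I)).presheaf.stalk (ι w)) :=
      @Equiv.subsingleton _ _ ((Groth.L00.Stk.F X (ι w)).mapIso eQ).toLinearEquiv.toEquiv (hQoff _ hw)
    have h2 : Subsingleton (((Scheme.Modules.pushforward ι).obj (cokernel uY)).presheaf.stalk (ι w)) :=
      @Function.Surjective.subsingleton _ _ _ h1 ((Groth.L21.Mod.epi_iff_stalk_surjective ψ).1 inferInstance (ι w))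
    exact @Function.Surjective.subsingleton _ _ _ h2 (c₀_bijective ι (cokernel uY) w).2
  have hC0 : h k 0 (cokernel uY) ≤ d := by
    rw [← Groth.L21.P1.h_push_affine k ι rfl (cokernel uY) 0]
    haveI : Epi (eQ.inv ≫ ψ) := epi_comp _ _
    exact h0_le_of_epi k hQc hQs (eQ.inv ≫ ψ)
  have hmin' : ∀ (M : J.subscheme.Modules) (φ : M ⟶ FY), Coh.IsCoh M →
      (∃ η, ¬ IsClosed ({η} : Set J.subscheme) ∧ Function.Surjective (st φ η)) → ∃ w, hmap φ 1 w ≠ 0 := by
    intro M φ hM hη
    by_contra hzero
    push Not at hzero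
    haveI := finite_HH' k (Groth.L16.CohKernel.isCoh_kernel_cokernel hM hFY φ).2 1
    have hle : h k 1 FY ≤ h k 1 (cokernel φ) :=
      LinearMap.finrank_le_finrank_of_injective (f := hk k (cokernel.π φ) 1)
        ((injective_iff_map_eq_zero _).2 fun y hy => by
          obtain ⟨w, rfl⟩ := exists_hmap_one_eq hdY.le φ y hy
          exact hzero w)
    have := hmin M φ hM hη
    omega
  have hLY1 : Subsingleton (Coh.HH J.subscheme LY 1) := by
    let unitL : L ⟶ (Scheme.Modules.pushforward ι).obj LY :=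
      (Scheme.Modules.pullbackPushforwardAdjunction ι).unit.app L
    haveI : Epi unitL := Groth.L22.FLI.epi_unit ι L
    have h2 := Groth.L21.P1.h_push_affine k ι rfl LY 1
    have hs : Subsingleton (Coh.HH X ((Scheme.Modules.pushforward ι).obj LY) 1) :=
      @Function.Surjective.subsingleton _ _ _ hH1 (surjective_hmap_one_of_epi hd unitL)
    rw [Groth.L21.RR.h_eq_zero_of_subsingleton k hs] at h2
    haveI := finite_HH' k hLYc 1
    exact Module.finrank_zero_iff.1 h2.symm
  -- connectedness
  haveI hconn : ConnectedSpace J.subscheme := by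
    haveI hne : Nonempty J.subscheme := by
      by_contra hE
      haveI := not_nonempty_iff.1 hE
      haveI : IsEmpty (IrreducibleCloseds J.subscheme) := ⟨fun c => hE ⟨c.isIrreducible.nonempty.some⟩⟩
      rw [topologicalKrullDim, Order.krullDim_eq_bot] at hdY
      simp at hdY
    refine connectedSpace_iff_clopen.mpr ⟨hne, fun U₀ hU₀ => ?_⟩
    by_contra hU
    push Not at hU
    obtain ⟨U, hUc, hUne, hUz⟩ : ∃ U : Set J.subscheme, IsClopen U ∧ U.Nonempty ∧ ∀ w, ι w = z → w ∉ U := by
      by_cases hw : ∃ w ∈ U₀, ι w = z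
      · obtain ⟨w, hwU, hwz⟩ := hw
        refine ⟨U₀ᶜ, hU₀.compl, Set.nonempty_compl.2 hU.2, fun w' hw' => ?_⟩
        rw [ι.isClosedEmbedding.injective (hw'.trans hwz.symm)]
        exact fun h => h hwU
      · push Not at hw
        exact ⟨U₀, hU₀, hU.1, fun w hwz hwU => hw w hwU hwz⟩
    obtain ⟨e, he⟩ := exists_clopen_section U hUc
    have hkill : scal LY e ≫ cokernel.π uY = 0 := by
      refine Groth.L21.Mod.hom_ext_stalk fun w => ?_
      ext v
      rw [Functor.map_zero]
      change st (scal LY e ≫ cokernel.π uY) w v = 0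
      by_cases hw : ι w = z
      · rw [Groth.L21.RR.st_comp, st_scal, (he w).2 (hUz w hw), zero_smul, map_zero]
      · exact @Subsingleton.elim _ (hCoff w hw) _ _
    let l : LY ⟶ FY := Abelian.monoLift uY (scal LY e) hkill
    have hl : uY ≫ l = scal FY e := by
      rw [← cancel_mono uY, Category.assoc, Abelian.monoLift_comp, scal_comp]
    obtain ⟨w₀, hw₀⟩ := hUne
    obtain ⟨η, hη, hηw⟩ := hgen w₀
    have hηU : η ∈ U := hηw.mem_open hUc.2 hw₀
    obtain ⟨y, hy⟩ := hmin' FY (scal FY e) hFY ⟨η, hη, fun v => ⟨v, by rw [st_scal, (he η).1 hηU, one_smul]⟩⟩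
    refine hy ?_
    rw [← hl, hmap_comp, hLY1.elim (hmap uY 1 y) 0, map_zero]
  have hg := h0_le_genus_of_ne_zero k hdY.le hgen hLY hFY uY hmin'
  have h1 := hdeg J hred hconn hdY
  have hS : (ShortComplex.mk uY (cokernel.π uY) (cokernel.condition uY)).ShortExact :=
    { exact := ShortComplex.exact_cokernel uY }
  have hadd := Groth.L21.RR.euler_add k hdY.le hS hFY hLYc hC
  rw [Groth.L21.RR.euler_eq_h0_of_suppClosed k hsupp, Groth.L21.RR.euler_eq k hdY.le FY] at hadd
  haveI := finite_HH' k (Groth.L16.CohClosedPush.isCoh_structure (X := J.subscheme)) 0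
  haveI : Nonempty (⊤ : J.subscheme.Opens) := ⟨⟨hconn.toNonempty.some, trivial⟩⟩
  haveI : Nontrivial (Coh.HH J.subscheme (Coh.structureModule J.subscheme) 0) :=
    (e0 (Coh.structureModule J.subscheme)).toEquiv.nontrivial (β := Γ(J.subscheme, ⊤))
  have hpos : 0 < h k 0 (Coh.structureModule J.subscheme) := Module.finrank_pos
  change _ ≤ Curv2.euler k J.subscheme LY - (1 : ℕ) * Curv2.euler k J.subscheme (Coh.structureModule J.subscheme) at h1
  rw [Groth.L21.RR.euler_eq k hdY.le (Coh.structureModule J.subscheme)] at h1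
  push_cast at h1
  simp only [LY, ι] at hadd h1
  omega

end Groth.L21.RedCurve
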