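import Groth.Agent.L21.RR.VeryAmple
import Groth.Agent.L21.RR.VeryAmpleField
import Groth.Agent.L21.CurveAdj.Pointed

/-!
Very ampleness on reduced curves: enough degree on every subcurve.
-/

set_option autoImplicit false
set_option backward.isDefEq.respectTransparency false
set_option linter.style.haveILetI false
universe u

open CategoryTheory CategoryTheory.Limits AlgebraicGeometry TopologicalSpace Opposite IsLocalRing
attribute [local instance] Curv2.resAlgebra

noncomputable section

namespace Groth.L21.RedCurve.VA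

open Groth.L21.RR
open Groth.L18.Frame (IsFrame rs)
open Groth.L18.GenLoc (secOf)
open Groth.L16.CohLinear (hmap)
open Groth.L00.Sky (sky toHom)
open Groth.L21.CurveAdj (degOn)

variable {X : Scheme.{u}} {L : X.Modules} (k : Type u) [Field k] [X.Over (Spec (CommRingCat.of k))]

/-- Degree more than `-2χ + 2` on every subcurve. -/
def Big (L : X.Modules) : Prop :=
  ∀ J : X.IdealSheafData, AlgebraicGeometry.IsReduced J.subscheme → ConnectedSpace J.subscheme →
    topologicalKrullDim J.subscheme = 1 →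
    -2 * @Curv2.euler k _ J.subscheme ⟨J.subschemeι ≫ (X ↘ Spec (CommRingCat.of k))⟩
        (Coh.structureModule J.subscheme) + 2 < degOn k L J

omit [X.Over (Spec (CommRingCat.of k))] in
theorem surjective_st_id {M : X.Modules} (x : X) : Function.Surjective (st (𝟙 M) x) := by
  rw [st, CategoryTheory.Functor.map_id]
  exact fun v => ⟨v, rfl⟩

omit [X.Over (Spec (CommRingCat.of k))] in
theorem surjective_kernel_toPoint {M : X.Modules} {P : X}
    (α : M.presheaf.stalk P →ₗ[X.presheaf.stalk P] ResidueField (X.presheaf.stalk P))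
    (hP : IsClosed ({P} : Set X)) (x : X) (hx : ¬ IsClosed ({x} : Set X)) :
    Function.Surjective (st (kernel.ι (toPoint P α)) x) := fun v => by
  haveI := subsingleton_stalk_sky (P := P) hP (y := x) (fun h => hx (h ▸ hP))
  exact exists_st_kernel (toPoint P α) x v (Subsingleton.elim _ _)

variable [IsProper (X ↘ Spec (CommRingCat.of k))] [AlgebraicGeometry.IsReduced X]

/-- No `H¹` for submodules of small colength. -/
theorem subsingleton_h1_of_mono (hd : topologicalKrullDim X ≤ 1) (hL : PicF.IsInvertible L) {F : X.Modules}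
    (u : F ⟶ L) [Mono u] (hF : Coh.IsCoh F) (hu : ∀ x : X, ¬ IsClosed ({x} : Set X) → Function.Surjective (st u x))
    {c : ℤ} (hc : Curv2.euler k X L - Curv2.euler k X F ≤ c) (hbig : Big k L) (hc2 : c ≤ 2) :
    Subsingleton (Coh.HH X F 1) := by
  haveI := isNoetherian_of_proper (X := X) k
  by_contra hns
  have hs : SuppClosed (cokernel u) := suppClosed_cokernel_of_surjective u hu
  have hLc := Groth.L16.ProperFinite.isCoh_of_isInvertible hL
  have hQ := (Groth.L16.CohKernel.isCoh_kernel_cokernel hF hLc u).2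
  have hS : (ShortComplex.mk u (cokernel.π u) (cokernel.condition u)).ShortExact :=
    { exact := ShortComplex.exact_cokernel u }
  have hadd := euler_add k hd hS hF hLc hQ
  rw [euler_eq_h0_of_suppClosed k hs] at hadd
  obtain ⟨J, C, χ, hred, hconn, hdim, -, hχ, hχ0, hb⟩ :=
    Groth.L21.RedCurve.exists_subcurve k hd hL hF u hs (not_subsingleton_iff_nontrivial.1 hns)
  haveI := hχ
  have hepi : Epi (cokernel.desc u χ hχ0) := epi_of_epi_fac (cokernel.π_desc u χ hχ0)
  haveI := hepi
  have hle := Groth.L21.RedCurve.h0_le_of_epi k hQ hs (cokernel.desc u χ hχ0)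
  have h1 := hbig J hred hconn hdim
  change degOn k L J ≤ _ at hb
  change Curv2.euler k X L = Curv2.euler k X F + _ at hadd
  have := Int.ofNat_le.2 hle
  linarith [Int.ofNat_le.2 hle]

end Groth.L21.RedCurve.VA

namespace Groth.L21.RedCurve.VA

open Groth.L21.RR
open Groth.L18.Frame (IsFrame rs)
open Groth.L18.GenLoc (secOf)
open Groth.L16.CohLinear (hmap)
open Groth.L00.Sky (sky toHom)

variable {X : Scheme.{u}} {L M : X.Modules} {P : X}
  (α : M.presheaf.stalk P →ₗ[X.presheaf.stalk P] ResidueField (X.presheaf.stalk P))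
  (k : Type u) [Field k] [IsAlgClosed k] [X.Over (Spec (CommRingCat.of k))]
  [IsProper (X ↘ Spec (CommRingCat.of k))] [AlgebraicGeometry.IsReduced X]

/-- A section with non-zero value under a functional at a closed point. -/
theorem exists_section_point' (hd : topologicalKrullDim X ≤ 1) (hL : PicF.IsInvertible L)
    (ι : M ⟶ L) [Mono ι] (hM : Coh.IsCoh M) (hP : IsClosed ({P} : Set X)) (hα : Function.Surjective α)
    (hι : ∀ x : X, ¬ IsClosed ({x} : Set X) → Function.Surjective (st ι x)) {c : ℤ}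
    (hc : Curv2.euler k X L - Curv2.euler k X M ≤ c) (hbig : Big k L) (hc1 : c ≤ 1) :
    ∃ s : Γ(M, ⊤), α (M.presheaf.germ ⊤ P trivial s) ≠ 0 := by
  haveI := isNoetherian_of_proper (X := X) k
  haveI := epi_toPoint α hP hα
  obtain ⟨hK, heK⟩ := euler_kernel_toPoint α k hd hP hM hα
  rw [finrank_residueField_eq_one k hP] at heK
  haveI := subsingleton_h1_of_mono k hd hL (kernel.ι (toPoint P α) ≫ ι) hK
    (fun x hx v => by
      obtain ⟨w, hw⟩ := hι x hx v
      obtain ⟨z, rfl⟩ := surjective_kernel_toPoint α hP x hx w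
      exact ⟨z, (st_comp _ _ x z).trans hw⟩)
    (c := c + 1) (by push_cast at heK; linarith) hbig (by linarith)
  have hS : (ShortComplex.mk (kernel.ι (toPoint P α)) (toPoint P α) (kernel.condition _)).ShortExact :=
    { exact := ShortComplex.exact_kernel _ }
  let q : Γ(sky P (resMod P), ⊤) := (fun _ => (1 : ResidueField (X.presheaf.stalk P)) :
    Groth.L00.Sky.Sec P (resMod P) ⊤)
  obtain ⟨t, ht⟩ := (Groth.L16.CohLinear.exact_hmap_delta hS 0 ((e0 _).symm q)).1 (Subsingleton.elim _ _)
  refine ⟨e0 M t, fun h0 => ?_⟩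
  have h1 := congrArg (e0 (sky P (resMod P))) ht
  rw [AddEquiv.apply_symm_apply, e0_hmap] at h1
  have h2 := congrArg (fun z => (z : Groth.L00.Sky.Sec P (resMod P) ⊤) ⟨trivial⟩) h1
  simp only at h2
  rw [toPoint_app α (U := ⊤) trivial, h0] at h2
  exact zero_ne_one h2

end Groth.L21.RedCurve.VA

namespace Groth.L21.RedCurve.VA

open Groth.L21.RR
open Groth.L18.Frame (IsFrame rs)
open Groth.L18.GenLoc (secOf)

variable {X : Scheme.{u}} {L : X.Modules} (k : Type u) [Field k] [IsAlgClosed k] [X.Over (Spec (CommRingCat.of k))]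
  [IsProper (X ↘ Spec (CommRingCat.of k))]

variable [AlgebraicGeometry.IsReduced X]

/-- Sections separate points. -/
theorem exists_sections_separating (hd : topologicalKrullDim X ≤ 1) (hL : PicF.IsInvertible L)
    (he : Big k L) {P Q : X}
    (hP : IsClosed ({P} : Set X)) (hQ : IsClosed ({Q} : Set X)) (hPQ : Q ≠ P) :
    ∃ s : Γ(L, ⊤),
      L.presheaf.germ ⊤ P trivial s ∈ maximalIdeal (X.presheaf.stalk P) • (⊤ : Submodule (X.presheaf.stalk P) (L.presheaf.stalk P)) ∧
      L.presheaf.germ ⊤ Q trivial s ∉ maximalIdeal (X.presheaf.stalk Q) • (⊤ : Submodule (X.presheaf.stalk Q) (L.presheaf.stalk Q)) := by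
  haveI := isNoetherian_of_proper (X := X) k
  obtain ⟨α, hα, hα0⟩ := exists_value hL P
  obtain ⟨β, hβ, hβ0⟩ := exists_value hL Q
  obtain ⟨hK, heK⟩ := euler_kernel_toPoint α k hd hP (Groth.L16.ProperFinite.isCoh_of_isInvertible hL) hα
  rw [finrank_residueField_eq_one k hP] at heK
  let ι := kernel.ι (toPoint P α)
  have hsur : Function.Surjective (β.comp (st ι Q)) := fun z => by
    obtain ⟨v, rfl⟩ := hβ z
    haveI := subsingleton_stalk_sky (P := P) hP hPQ
    obtain ⟨u, hu⟩ := exists_st_kernel (toPoint P α) Q v (Subsingleton.elim _ _)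
    exact ⟨u, congrArg β hu⟩
  obtain ⟨s, hs⟩ := exists_section_point' (P := Q) (β.comp (st ι Q)) k hd hL ι hK hQ hsur
    (surjective_kernel_toPoint α hP) (c := 1) (by rw [heK]; simp) he (by norm_num)
  refine ⟨ι.app ⊤ s, (hα0 _).1 ?_, fun hmem => hs ?_⟩
  · rw [← counit_toPoint α, ← st_germ ι, ← st_comp ι (toPoint P α), kernel.condition, st, Functor.map_zero]
    exact map_zero _
  · show β (st ι Q _) = 0
    rw [st_germ, hβ0]
    exact hmem

/-- Sections separate tangent vectors. -/
theorem maximalIdeal_smul_le_span (hd : topologicalKrullDim X ≤ 1) (hL : PicF.IsInvertible L)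
    (he : Big k L) {P : X} (hP : IsClosed ({P} : Set X)) :
    maximalIdeal (X.presheaf.stalk P) • (⊤ : Submodule (X.presheaf.stalk P) (L.presheaf.stalk P)) ≤
      Submodule.span (X.presheaf.stalk P)
        {v | (∃ s : Γ(L, ⊤), v = L.presheaf.germ ⊤ P trivial s) ∧
          v ∈ maximalIdeal (X.presheaf.stalk P) • (⊤ : Submodule (X.presheaf.stalk P) (L.presheaf.stalk P))} ⊔
      maximalIdeal (X.presheaf.stalk P) ^ 2 • (⊤ : Submodule (X.presheaf.stalk P) (L.presheaf.stalk P)) := by
  haveI := isNoetherian_of_proper (X := X) k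
  intro v₀ hv₀
  by_contra hnot
  obtain ⟨α, hα, hα0⟩ := exists_value hL P
  obtain ⟨hK, heK⟩ := euler_kernel_toPoint α k hd hP (Groth.L16.ProperFinite.isCoh_of_isInvertible hL) hα
  rw [finrank_residueField_eq_one k hP] at heK
  let ι := kernel.ι (toPoint P α)
  set T := Submodule.span (X.presheaf.stalk P)
      {v | (∃ s : Γ(L, ⊤), v = L.presheaf.germ ⊤ P trivial s) ∧
        v ∈ maximalIdeal (X.presheaf.stalk P) • (⊤ : Submodule (X.presheaf.stalk P) (L.presheaf.stalk P))} ⊔
    maximalIdeal (X.presheaf.stalk P) ^ 2 • (⊤ : Submodule (X.presheaf.stalk P) (L.presheaf.stalk P)) with hT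
  have hmem : ∀ u, st ι P u ∈ maximalIdeal (X.presheaf.stalk P) • (⊤ : Submodule (X.presheaf.stalk P) (L.presheaf.stalk P)) :=
    fun u => (hα0 _).1 (by
      rw [← counit_toPoint α, ← st_comp ι (toPoint P α), kernel.condition, st, Functor.map_zero]
      exact map_zero _)
  obtain ⟨u₀, hu₀⟩ : ∃ u, st ι P u = v₀ := by
    refine exists_st_kernel (toPoint P α) P v₀ ?_
    haveI := Groth.L00.Sky.isIso_counit (x := P) (resMod P)
    apply (ConcreteCategory.bijective_of_isIso ((Groth.L00.Sky.adj P).counit.app (resMod P))).1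
    rw [counit_toPoint, (hα0 _).2 hv₀]
    exact (map_zero _).symm
  let T' : Submodule (X.presheaf.stalk P) ((kernel (toPoint P α)).presheaf.stalk P) := T.comap (st ι P)
  have hkill : ∀ r ∈ maximalIdeal (X.presheaf.stalk P),
      ∀ w : ((kernel (toPoint P α)).presheaf.stalk P) ⧸ T', r • w = 0 := by
    intro r hr w
    obtain ⟨u, rfl⟩ := Submodule.Quotient.mk_surjective _ w
    rw [← Submodule.Quotient.mk_smul, Submodule.Quotient.mk_eq_zero]
    show st ι P (r • u) ∈ T
    rw [map_smul]
    refine Submodule.mem_sup_right ?_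
    rw [pow_two, Submodule.mul_smul]
    exact Submodule.smul_mem_smul hr (hmem u)
  obtain ⟨q, hq⟩ := exists_functional hkill (v₀ := Submodule.Quotient.mk u₀) (by
    rw [Ne, Submodule.Quotient.mk_eq_zero]
    show st ι P u₀ ∉ T
    rw [hu₀]
    exact hnot)
  obtain ⟨s, hs⟩ := exists_section_point' (P := P) (q.comp T'.mkQ) k hd hL ι hK hP
    ((surjective_linearMap_residue q hq).comp T'.mkQ_surjective) (surjective_kernel_toPoint α hP) (c := 1)
    (by rw [heK]; simp) he (by norm_num)
  refine hs ?_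
  show q (Submodule.Quotient.mk _) = 0
  rw [(Submodule.Quotient.mk_eq_zero T').2 ?_, map_zero]
  refine Submodule.mem_sup_left (Submodule.subset_span ⟨⟨ι.app ⊤ s, st_germ ι _ s⟩, hmem _⟩)

section Spanning

variable {n : ℕ} {S : Fin (n + 1) → Γ(L, ⊤)}

/-- A spanning family has no base points. -/
theorem exists_germ_not_mem (hd : topologicalKrullDim X ≤ 1) (hL : PicF.IsInvertible L)
    (he : Big k L)
    (hspan : ∀ s : Γ(L, ⊤), ∃ c : Fin (n + 1) → k,
      s = ∑ j, ProjUP.toGlobal (X ↘ Spec (CommRingCat.of k)) (c j) • S j) {z : X} (hz : IsClosed ({z} : Set X)) :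
    ∃ j : Fin (n + 1), L.presheaf.germ ⊤ z trivial (S j) ∉
      maximalIdeal (X.presheaf.stalk z) • (⊤ : Submodule (X.presheaf.stalk z) (L.presheaf.stalk z)) := by
  haveI := isNoetherian_of_proper (X := X) k
  by_contra hall
  push Not at hall
  obtain ⟨α, hα, hα0⟩ := exists_value hL z
  obtain ⟨s, hs⟩ := exists_section_point' α k hd hL (𝟙 L) (Groth.L16.ProperFinite.isCoh_of_isInvertible hL) hz hα
    (fun x _ => surjective_st_id x) (c := 0) (by simp) he (by norm_num)
  obtain ⟨c, rfl⟩ := hspan s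
  refine hs ((hα0 _).2 ?_)
  rw [map_sum]
  refine Submodule.sum_mem _ fun j _ => ?_
  rw [Groth.L20.ModStalk.germ_smul]
  exact Submodule.smul_mem _ _ (hall j)

/-- A spanning family generates. -/
theorem generatedBy_of_span (hd : topologicalKrullDim X ≤ 1) (hL : PicF.IsInvertible L)
    (he : Big k L)
    (hspan : ∀ s : Γ(L, ⊤), ∃ c : Fin (n + 1) → k,
      s = ∑ j, ProjUP.toGlobal (X ↘ Spec (CommRingCat.of k)) (c j) • S j) :
    ProjUP.GeneratedBy L S := by
  classical
  haveI := isNoetherian_of_proper (X := X) k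
  choose φ hφ using fun j => exists_hom_secOf (X := X) (S j)
  have hsurj : ∀ (z : X) (j : Fin (n + 1)), L.presheaf.germ ⊤ z trivial (S j) ∉
      maximalIdeal (X.presheaf.stalk z) • (⊤ : Submodule (X.presheaf.stalk z) (L.presheaf.stalk z)) →
      Function.Surjective (st (φ j) z) := by
    intro z j hj
    obtain ⟨e, he⟩ := exists_frame_stalk hL z
    obtain ⟨a, ha⟩ := he.2 (L.presheaf.germ ⊤ z trivial (S j))
    have hone : st (φ j) z (one X z) = L.presheaf.germ ⊤ z trivial (S j) := by
      rw [st_one (φ j) z (W := ⊤) trivial, Groth.L18.Frame.rs_self, ← secOf_eq, hφ j]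
    refine (surjective_st_iff he (φ j) (ha.trans hone.symm)).2 ?_
    by_contra hu
    exact hj (ha ▸ Submodule.smul_mem_smul ((IsLocalRing.mem_maximalIdeal _).2 hu) Submodule.mem_top)
  exact Groth.L18.SpecLine.generatedBy_of_frames (ι := Fin (n + 1)) S fun x => by
      obtain ⟨z, hz, hxz⟩ := exists_closed_specialization x
      obtain ⟨j, hj⟩ := exists_germ_not_mem k hd hL he hspan hz
      refine ⟨_, j, (Groth.L21.CurveAdj.mem_genLocus_iff' hL (φ j) x).2 (surjective_st_of_specializes hL hxz (hsurj z j hj)), ?_⟩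
      rw [← hφ j]
      exact Groth.L18.GenLoc.isFrame_genLocus (φ j)

/-- The morphism of a spanning family is a closed immersion. -/
theorem isClosedImmersion_of_span (hd : topologicalKrullDim X ≤ 1) (hL : PicF.IsInvertible L)
    (he : Big k L)
    (hspan : ∀ s : Γ(L, ⊤), ∃ c : Fin (n + 1) → k,
      s = ∑ j, ProjUP.toGlobal (X ↘ Spec (CommRingCat.of k)) (c j) • S j)
    (r : X ⟶ Groth.L18.PUP.P n k) (hr : r ≫ Groth.L18.PUP.pr n k = X ↘ Spec (CommRingCat.of k))
    (τ : (Scheme.Modules.pullback r).obj (Groth.L18.PUP.O1 n k) ≅ L)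
    (hτ : ∀ j, τ.hom.app ⊤ (Groth.L18.PUP.rT r j) = S j) : IsClosedImmersion r := by
  classical
  haveI := isNoetherian_of_proper (X := X) k
  let M₁ := (Scheme.Modules.pullback r).obj (Groth.L18.PUP.O1 n k)
  let θ : ∀ x : X, M₁.presheaf.stalk x ≃ₗ[X.presheaf.stalk x] L.presheaf.stalk x := fun x =>
    ((Groth.L00.Stk.F X x).mapIso τ).toLinearEquiv
  have hθs : ∀ (x : X) (c : Fin (n + 1) → k),
      θ x (Groth.L18.CIC.secGerm (X ↘ Spec (CommRingCat.of k)) r x c) =
        L.presheaf.germ ⊤ x trivial (∑ j, ProjUP.toGlobal (X ↘ Spec (CommRingCat.of k)) (c j) • S j) := by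
    intro x c
    refine (st_germ τ.hom (U := ⊤) trivial _).trans ?_
    refine congrArg _ ?_
    rw [map_sum]
    refine Finset.sum_congr rfl fun j _ => ?_
    rw [Scheme.Modules.Hom.app_smul, hτ j]
  have hθmap : ∀ (x : X) (J : Ideal (X.presheaf.stalk x)),
      (J • (⊤ : Submodule (X.presheaf.stalk x) (M₁.presheaf.stalk x))).map (θ x).toLinearMap =
        J • (⊤ : Submodule (X.presheaf.stalk x) (L.presheaf.stalk x)) := fun x J => by
    rw [Submodule.map_smul'', Submodule.map_top, LinearEquiv.range]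
  have hθmem : ∀ (x : X) (J : Ideal (X.presheaf.stalk x)) (v : M₁.presheaf.stalk x),
      v ∈ J • (⊤ : Submodule (X.presheaf.stalk x) (M₁.presheaf.stalk x)) ↔
        θ x v ∈ J • (⊤ : Submodule (X.presheaf.stalk x) (L.presheaf.stalk x)) := fun x J v => by
    rw [← hθmap x J, ← LinearEquiv.coe_toLinearMap (θ x)]
    exact ⟨fun h => Submodule.mem_map_of_mem h, fun ⟨w, hw, hwv⟩ => (θ x).injective hwv ▸ hw⟩
  refine Groth.L18.CIC.isClosedImmersion_of_sep_tan (X ↘ Spec (CommRingCat.of k)) r hr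
    (fun P Q hP hQ hne => ?_) fun P hP => ?_
  · obtain ⟨s, hsP, hsQ⟩ := exists_sections_separating k hd hL he hP hQ (Ne.symm hne)
    obtain ⟨c, rfl⟩ := hspan s
    refine ⟨c, fun hiff => hsQ ?_⟩
    have h1 := hiff.1 ((hθmem P _ _).2 (by rw [hθs P c]; exact hsP))
    rw [← hθs Q c]
    exact (hθmem Q _ _).1 h1
  · intro v hv
    have h1 := maximalIdeal_smul_le_span k hd hL he hP ((hθmem P _ v).1 hv)
    have h2 : θ P v ∈ (Submodule.span (X.presheaf.stalk P)
        {v | ∃ c : Fin (n + 1) → k, v = Groth.L18.CIC.secGerm (X ↘ Spec (CommRingCat.of k)) r P c ∧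
          v ∈ maximalIdeal (X.presheaf.stalk P) • (⊤ : Submodule (X.presheaf.stalk P) (Groth.L18.CIC.MS r P))} ⊔
        maximalIdeal (X.presheaf.stalk P) ^ 2 • (⊤ : Submodule (X.presheaf.stalk P) (Groth.L18.CIC.MS r P))).map
          (θ P).toLinearMap := by
      rw [Submodule.map_sup, Submodule.map_span, hθmap]
      obtain ⟨a, ha, b, hb, hab⟩ := Submodule.mem_sup.1 h1
      refine Submodule.mem_sup.2 ⟨a, Submodule.span_mono ?_ ha, b, hb, hab⟩
      rintro w ⟨⟨s, rfl⟩, hw⟩
      obtain ⟨c, rfl⟩ := hspan s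
      exact ⟨_, ⟨c, rfl, (hθmem P _ _).2 (by rw [hθs P c]; exact hw)⟩, hθs P c⟩
    obtain ⟨w, hw, hwv⟩ := h2
    exact (θ P).injective hwv ▸ hw


/-- A spanning family of global sections. -/
theorem exists_span_fin [Nonempty X] (hd : topologicalKrullDim X ≤ 1) (hL : PicF.IsInvertible L)
    (he : Big k L) :
    ∃ (n : ℕ) (S : Fin (n + 1) → Γ(L, ⊤)), ∀ s : Γ(L, ⊤), ∃ c : Fin (n + 1) → k,
      s = ∑ j, ProjUP.toGlobal (X ↘ Spec (CommRingCat.of k)) (c j) • S j := by
  haveI := isNoetherian_of_proper (X := X) k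
  haveI := finite_HH' k (Groth.L16.ProperFinite.isCoh_of_isInvertible hL) 0
  have hne : 0 < Module.finrank k (Coh.HH X L 0) := by
    obtain ⟨z₀⟩ := (inferInstance : Nonempty X)
    obtain ⟨z, hz, -⟩ := exists_closed_specialization z₀
    obtain ⟨α, hα, -⟩ := exists_value hL z
    obtain ⟨s, hs⟩ := exists_section_point' α k hd hL (𝟙 L) (Groth.L16.ProperFinite.isCoh_of_isInvertible hL) hz hα
      (fun x _ => surjective_st_id x) (c := 0) (by simp) he (by norm_num)
    haveI : Nontrivial (Coh.HH X L 0) := ⟨⟨(e0 L).symm s, 0, fun h0 => hs (by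
      rw [show s = 0 from (e0 L).symm.injective (h0.trans (map_zero _).symm), map_zero, map_zero])⟩⟩
    exact Module.finrank_pos
  obtain ⟨n, hn⟩ := Nat.exists_eq_succ_of_ne_zero hne.ne'
  let b := Module.finBasisOfFinrankEq k (Coh.HH X L 0) hn
  let S : Fin (n + 1) → Γ(L, ⊤) := fun i => e0 L (b i)
  refine ⟨n, S, fun s => ?_⟩
  refine ⟨fun j => b.repr ((e0 L).symm s) j, ?_⟩
  conv_lhs => rw [← (e0 L).apply_symm_apply s, ← b.sum_repr ((e0 L).symm s)]
  rw [map_sum]
  exact Finset.sum_congr rfl fun j _ => e0_smul k L _ _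

end Spanning


/-- Invertible modules with enough degree on every subcurve are very ample. -/
theorem exists_closedImmersion_of_big [Nonempty X] (hd : topologicalKrullDim X ≤ 1) (hL : PicF.IsInvertible L)
    (he : Big k L) :
    ∃ (n : ℕ) (r : X ⟶ Groth.L18.PUP.P n k), IsClosedImmersion r ∧
      r ≫ Groth.L18.PUP.pr n k = X ↘ Spec (CommRingCat.of k) ∧
      Nonempty ((Scheme.Modules.pullback r).obj (Groth.L18.PUP.O1 n k) ≅ L) := by
  obtain ⟨n, S, hspan⟩ := exists_span_fin k hd hL he
  obtain ⟨r, hr, τ, hτ⟩ := Groth.L18.PUP.exists_hom (X ↘ Spec (CommRingCat.of k)) L hL S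
    (generatedBy_of_span k hd hL he hspan)
  exact ⟨n, r, isClosedImmersion_of_span k hd hL he hspan r hr τ hτ, hr, ⟨τ⟩⟩

end Groth.L21.RedCurve.VA
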