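import Groth.Agent.L21.CurveAdj.Pointed
import Groth.Agent.L21.Nodal.Reduced
import Groth.Agent.L21.RR.BirationalGenus
import Groth.Agent.L08.Cube.Inverse

/-!
Regular points on each component of a reduced curve; invertible modules of prescribed component degree.
-/

set_option autoImplicit false
set_option backward.isDefEq.respectTransparency false
set_option backward.isDefEq.respectTransparency.types false
set_option linter.style.haveILetI false
universe u

open CategoryTheory CategoryTheory.Limits AlgebraicGeometry Opposite TopologicalSpace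

noncomputable section

namespace Groth.L21.RedCurve.Pts

open Groth.L21.RR (h st one bijective_smul_one finite_HH')
open Groth.L21.CurveAdj

variable {X : Scheme.{u}}

/-- The stalk of an ideal module is the ideal of the local ring. -/
theorem nonempty_idealMod_stalk_equiv (J : X.IdealSheafData) (x : X) :
    Nonempty ((ClSub.idealMod J).presheaf.stalk x ≃ₗ[X.presheaf.stalk x] stI J x) := by
  haveI : Mono (ClSub.idealModι J) := inferInstanceAs (Mono (kernel.ι _))
  have hinj := (Groth.L21.Mod.mono_iff_stalk_injective (ClSub.idealModι J)).1 inferInstance x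
  let θ := LinearEquiv.ofBijective (LinearMap.toSpanSingleton (X.presheaf.stalk x)
    ((Coh.structureModule X).presheaf.stalk x) (one X x)) (bijective_smul_one x)
  let F := θ.symm.toLinearMap.comp (st (ClSub.idealModι J) x)
  have hF : Function.Injective F := θ.symm.injective.comp hinj
  have hr : LinearMap.range F = stI J x := by
    ext r
    constructor
    · rintro ⟨v, rfl⟩
      exact ⟨v, (θ.apply_symm_apply _).symm⟩
    · rintro ⟨v, hv⟩
      exact ⟨v, θ.injective ((θ.apply_symm_apply _).trans hv)⟩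
  exact ⟨(LinearEquiv.ofInjective F hF).trans (LinearEquiv.ofEq _ _ hr)⟩

variable {k : Type u} [Field k] [X.Over (Spec (CommRingCat.of k))] [IsProper (X ↘ Spec (CommRingCat.of k))]
  [AlgebraicGeometry.IsReduced X]

/-- Every component contains a closed point off the others with a discrete valuation ring as local ring. -/
theorem exists_point [PerfectField k] (hd : topologicalKrullDim X ≤ 1) {y : X} (hy : ¬ IsClosed ({y} : Set X)) :
    ∃ z : X, IsClosed ({z} : Set X) ∧ y ⤳ z ∧ (∀ w : X, ¬ IsClosed ({w} : Set X) → w ⤳ z → w = y) ∧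
      ∃ π : X.presheaf.stalk z, π ∈ nonZeroDivisors (X.presheaf.stalk z) ∧
        IsLocalRing.maximalIdeal (X.presheaf.stalk z) = X.presheaf.stalk z ∙ π := by
  classical
  haveI := Groth.L21.RR.isNoetherian_of_proper (X := X) k
  have hmax : ∀ w : X, w ⤳ y → w = y := Groth.L21.RedCurve.maximal_of_not_isClosed hd hy
  obtain ⟨U, hyU, hU⟩ := Groth.L21.Nodal.exists_smooth_nhd_of_maximal (X ↘ Spec (CommRingCat.of k)) y hmax
  let B : Set X := ⋃ w ∈ {w : X | ¬ IsClosed ({w} : Set X) ∧ w ≠ y}, closure {w}
  have hB : IsClosed B :=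
    ((Groth.L22.CurveDeg.finite_nonclosed hd).subset fun w hw => hw.1).isClosed_biUnion fun _ _ => isClosed_closure
  have hyB : y ∉ B := fun h => by
    obtain ⟨w, hw, hwy⟩ := Set.mem_iUnion₂.1 h
    exact hw.2 (hmax w (specializes_iff_mem_closure.2 hwy))
  haveI : JacobsonSpace X := LocallyOfFiniteType.jacobsonSpace (X ↘ Spec (CommRingCat.of k))
  obtain ⟨z, ⟨⟨hzy, hzU⟩, hzB⟩, hz⟩ := nonempty_inter_closedPoints (Z := (closure {y} ∩ (U : Set X)) ∩ Bᶜ)
    ⟨y, ⟨subset_closure rfl, hyU⟩, hyB⟩
    ((isClosed_closure.isLocallyClosed.inter U.2.isLocallyClosed).inter hB.isOpen_compl.isLocallyClosed)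
  replace hzy : y ⤳ z := specializes_iff_mem_closure.2 hzy
  refine ⟨z, hz, hzy, fun w hw hwz => by_contra fun hne => hzB (Set.mem_biUnion (show w ∈ _ from ⟨hw, hne⟩)
    (specializes_iff_mem_closure.1 hwz)), ?_⟩
  haveI hreg : IsRegularLocalRing (U.toScheme.presheaf.stalk ⟨z, hzU⟩) :=
    Groth.L21.Smooth.regular_stalk (U.ι ≫ (X ↘ Spec (CommRingCat.of k))) _
  haveI : IsRegularLocalRing (X.presheaf.stalk z) :=
    IsRegularLocalRing.of_ringEquiv (U.stalkIso ⟨z, hzU⟩).commRingCatIsoToRingEquiv
  haveI : IsDomain (X.presheaf.stalk z) := Groth.L01.isDomain_of_regular _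
  obtain ⟨π, hπ⟩ := (Groth.L21.SmoothDescent.isPrincipal_of_dim_le_one
    ((Groth.L21.SmoothDescent.ringKrullDim_stalk_le z).trans hd)).principal
  refine ⟨π, mem_nonZeroDivisors_of_ne_zero fun h0 => ?_, hπ⟩
  have hf : IsField (X.presheaf.stalk z) := by
    rw [IsLocalRing.isField_iff_maximalIdeal_eq, hπ, h0, Submodule.span_singleton_eq_bot]
  letI := hf.toField
  haveI : Subsingleton (PrimeSpectrum (X.presheaf.stalk z)) :=
    (PrimeSpectrum.subsingleton_iff_isField_of_isReduced).2 hf
  obtain ⟨p, hp⟩ : y ∈ Set.range (X.fromSpecStalk z) := by rw [X.range_fromSpecStalk]; exact hzy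
  obtain ⟨p', hp'⟩ : z ∈ Set.range (X.fromSpecStalk z) := by rw [X.range_fromSpecStalk]; exact specializes_rfl
  refine hy ?_
  rw [← hp, Subsingleton.elim (α := PrimeSpectrum (X.presheaf.stalk z)) p p', hp']
  exact hz

variable [IsAlgClosed k]

/-- An invertible module of degree one on every component. -/
theorem exists_degOn_one (hd : topologicalKrullDim X ≤ 1)
    (hgen : ∀ z : X, ∃ w, ¬ IsClosed ({w} : Set X) ∧ w ⤳ z) :
    ∃ L : X.Modules, PicF.IsInvertible L ∧
      (∀ (y : X), ¬ IsClosed ({y} : Set X) →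
        degOn k L (Scheme.IdealSheafData.vanishingIdeal ⟨closure {y}, isClosed_closure⟩) = 1) ∧
      Curv2.deg k X L 1 = Nat.card {y : X // ¬ IsClosed ({y} : Set X)} := by
  classical
  haveI := Groth.L21.RR.isNoetherian_of_proper (X := X) k
  choose z hz hyz huniq π hπ hπm using fun y : {y : X // ¬ IsClosed ({y} : Set X)} => exists_point (k := k) hd y.2
  have hinj : Function.Injective z := fun a b hab => Subtype.ext (huniq b a.1 a.2 (hab ▸ hyz a))
  haveI : Finite {y : X // ¬ IsClosed ({y} : Set X)} :=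
    (Groth.L22.CurveDeg.finite_nonclosed hd).to_subtype
  set D : Set X := Set.range z with hD
  have hDfin : D.Finite := Set.finite_range z
  have hpts : ∀ x ∈ D, IsClosed ({x} : Set X) := by rintro x ⟨a, rfl⟩; exact hz a
  have hDcl : IsClosed D := by
    rw [← Set.biUnion_of_singleton D]
    exact hDfin.isClosed_biUnion fun x hx => hpts x hx
  set I := Scheme.IdealSheafData.vanishingIdeal (⟨D, hDcl⟩ : Closeds X) with hI
  have hsupp : (I.support : Set X) = D := by rw [hI, Scheme.IdealSheafData.coe_support_vanishingIdeal]; rfl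
  have hInv : PicF.IsInvertible (ClSub.idealMod I) := by
    refine Groth.L21.CurveGor.isInvertible_of_stalk_equiv (Groth.L21.RR.isCoh_idealMod I) fun x => ?_
    obtain ⟨E⟩ := nonempty_idealMod_stalk_equiv I x
    by_cases hx : x ∈ D
    · obtain ⟨a, rfl⟩ := hx
      refine ⟨E.trans ((LinearEquiv.ofEq _ (Submodule.span (X.presheaf.stalk (z a)) {π a}) ?_).trans
        (LinearEquiv.ofBijective ((LinearMap.toSpanSingleton (X.presheaf.stalk (z a)) (X.presheaf.stalk (z a))
          (π a)).codRestrict (Submodule.span (X.presheaf.stalk (z a)) {π a}) fun r =>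
            Submodule.mem_span_singleton.2 ⟨r, rfl⟩) ⟨fun r r' h => ?_, fun v => ?_⟩).symm)⟩
      · rw [← hπm a]
        exact stI_vanishingIdeal_finite hDcl hDfin hpts ⟨a, rfl⟩
      · exact mul_cancel_right_mem_nonZeroDivisors (hπ a) |>.1 (congrArg Subtype.val h)
      · obtain ⟨r, hr⟩ := Submodule.mem_span_singleton.1 v.2
        exact ⟨r, Subtype.ext hr⟩
    · haveI := Groth.L21.RR.subsingleton_stalk_quotMod I (x := x) (fun h => hx (hsupp.le h))
      have htop : stI I x = ⊤ := by
        rw [← ker_quotMap]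
        exact eq_top_iff.2 fun r _ => LinearMap.mem_ker.2 (Subsingleton.elim _ _)
      exact ⟨E.trans ((LinearEquiv.ofEq _ ⊤ htop).trans Submodule.topEquiv)⟩
  obtain ⟨L, -, ⟨e⟩⟩ := Groth.L08.Cube.exists_inverse hInv
  obtain ⟨hLinv, hLdeg, hLon⟩ := degOn_inverse (k := k) hd hgen hDcl hDfin hpts
    (N := L) ⟨Groth.L00.Tensor.tensorComm _ _ ≪≫ e⟩
  refine ⟨L, hLinv, fun y hy => ?_, ?_⟩
  · obtain ⟨hr, -, hg⟩ := component hgen (closure {y}) (closure_mem_components hd hy)
    haveI := hr
    have hv := van_of_isReduced hd _ hg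
    rw [coe_support_IC] at hv hg
    rw [hLon isClosed_closure hv hg]
    have hset : D ∩ closure {y} = {z ⟨y, hy⟩} := by
      refine Set.Subset.antisymm ?_ ?_
      · rintro x ⟨⟨a, rfl⟩, hx⟩
        rw [show a = ⟨y, hy⟩ from Subtype.ext (huniq a y hy (specializes_iff_mem_closure.2 hx)).symm]
        rfl
      · rintro x rfl
        exact ⟨⟨_, rfl⟩, specializes_iff_mem_closure.1 (hyz ⟨y, hy⟩)⟩
    rw [hset]
    simp
  · rw [hLdeg, hD, Nat.card_range_of_injective hinj]

omit [AlgebraicGeometry.IsReduced X] [IsAlgClosed k] in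
/-- The genus of a closed subscheme is at most that of the curve. -/
theorem h1_subscheme_le (hd : topologicalKrullDim X ≤ 1) (J : X.IdealSheafData) :
    @h J.subscheme k _ ⟨J.subschemeι ≫ (X ↘ Spec (CommRingCat.of k))⟩ 1 (Coh.structureModule J.subscheme) ≤
      Curv2.genus k X := by
  letI : J.subscheme.Over (Spec (CommRingCat.of k)) := ⟨J.subschemeι ≫ (X ↘ Spec (CommRingCat.of k))⟩
  haveI := Groth.L21.RR.isNoetherian_of_proper (X := X) k
  haveI := finite_HH' k (Groth.L16.CohClosedPush.isCoh_structure (X := X)) 1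
  haveI := Groth.L21.RR.epi_toSubscheme J
  rw [← Groth.L21.RR.h_push_structure J.subschemeι k rfl 1]
  refine LinearMap.finrank_le_finrank_of_surjective (f := Groth.L21.RR.hk k (ClSub.toSubscheme J) 1)
    (Groth.L21.RR.surjective_hmap_one_of_suppClosed hd _ fun x _ =>
      (Groth.L21.Mod.isZero_iff_stalk_subsingleton _).1 (isZero_cokernel_of_epi _) x)

end Groth.L21.RedCurve.Pts
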