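import Groth.Agent.L21.RedCurve.Core
import Groth.Agent.L22.FLI.Pull
import Groth.Agent.L16.Existence.Lemmas
import Groth.Agent.L21.P1.PushCoh
import Groth.Agent.L18.KerReduced
import Groth.Agent.L21.RR.Mul

/-!
Passing to the smallest subcurve carrying a non-zero `H¹`.
-/

set_option autoImplicit false
set_option backward.isDefEq.respectTransparency false
set_option linter.style.haveILetI false
universe u

open CategoryTheory CategoryTheory.Limits AlgebraicGeometry TopologicalSpace Opposite

noncomputable section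

namespace Groth.L21.RedCurve

open Groth.L21.RR (st SuppClosed h finite_HH' exists_frame_stalk)
open Groth.L16.CohLinear (hmap hmap_comp)
open Groth.L17.ClosedPush (c₀ c₀_bijective c₀_germ subsingleton_stalk_push)

section Push

variable {Y X : Scheme.{u}} (f : Y ⟶ X)

/-- Stalks of direct images are natural. -/
theorem c₀_st {M N : Y.Modules} (g : M ⟶ N) (y : Y)
    (v : ((Scheme.Modules.pushforward f).obj M).presheaf.stalk (f y)) :
    c₀ f N y (st ((Scheme.Modules.pushforward f).map g) (f y) v) = st g y (c₀ f M y v) := by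
  obtain ⟨V, hV, m, rfl⟩ := TopCat.Presheaf.exists_germ_eq ((Scheme.Modules.pushforward f).obj M).presheaf v
  rw [Groth.L21.RR.st_germ]
  refine (c₀_germ f N y hV _).trans ?_
  refine Eq.trans ?_ (congrArg (st g y) (c₀_germ f M y hV m)).symm
  exact (Groth.L21.RR.st_germ g (show y ∈ f ⁻¹ᵁ V from hV) m).symm

/-- Surjectivity on a stalk passes to the direct image. -/
theorem surjective_st_push [IsClosedImmersion f] {M N : Y.Modules} (g : M ⟶ N) (y : Y)
    (hg : Function.Surjective (st g y)) :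
    Function.Surjective (st ((Scheme.Modules.pushforward f).map g) (f y)) := fun v => by
  obtain ⟨w, hw⟩ := hg (c₀ f N y v)
  obtain ⟨z, hz⟩ := (c₀_bijective f M y).2 w
  exact ⟨z, (c₀_bijective f N y).1 ((c₀_st f g y z).trans (by rw [hz, hw]))⟩

/-- A section of an invertible module with zero germs at the generic points vanishes. -/
theorem invertible_section_eq_zero [AlgebraicGeometry.IsReduced Y]
    (hgen : ∀ z : Y, ∃ w, ¬ IsClosed ({w} : Set Y) ∧ w ⤳ z) {L : Y.Modules} (hL : PicF.IsInvertible L)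
    {U : Y.Opens} (s : Γ(L, U))
    (hs : ∀ (w : Y) (hw : w ∈ U), ¬ IsClosed ({w} : Set Y) → L.presheaf.germ U w hw s = 0) : s = 0 := by
  refine Groth.L21.RR.germ_ext fun x hxU => ?_
  rw [map_zero]
  obtain ⟨W₀, e, hx, he⟩ := Groth.L18.Frame.exists_frame hL x
  rw [← Groth.L20.ModStalk.germ_rs L (inf_le_left : U ⊓ W₀ ≤ U) ⟨hxU, hx⟩]
  obtain ⟨a, ha⟩ := he.exists_coeff (inf_le_right : U ⊓ W₀ ≤ W₀) (Groth.L18.Frame.rs L inf_le_left s)
  have ha0 : a = 0 := section_eq_zero hgen a fun w hw hwn => by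
    refine (Groth.L21.RR.bijective_germ_frame he hw.2).1 ?_
    dsimp only
    rw [zero_smul, ← Groth.L20.ModStalk.germ_rs L (inf_le_right : U ⊓ W₀ ≤ W₀) hw e,
      ← Groth.L20.ModStalk.germ_smul, ha, Groth.L20.ModStalk.germ_rs]
    exact hs w hw.1 hwn
  rw [← ha, ha0, zero_smul, map_zero]

/-- A map into the direct image of a subsheaf of an invertible module is zero if it is so at generic points. -/
theorem hom_push_eq_zero [IsClosedImmersion f] [AlgebraicGeometry.IsReduced Y]
    (hgen : ∀ z : Y, ∃ w, ¬ IsClosed ({w} : Set Y) ∧ w ⤳ z) {L : Y.Modules} (hL : PicF.IsInvertible L)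
    {K : X.Modules} (c : K ⟶ (Scheme.Modules.pushforward f).obj L)
    (hK : ∀ w : Y, ¬ IsClosed ({w} : Set Y) → Subsingleton (K.presheaf.stalk (f w))) : c = 0 := by
  refine Scheme.Modules.hom_ext _ _ fun U => ?_
  ext s
  refine invertible_section_eq_zero (U := f ⁻¹ᵁ U) hgen hL (show Γ(L, f ⁻¹ᵁ U) from c.app U s) fun w hw hwn => ?_
  haveI := hK w hwn
  refine (c₀_germ f L w hw _).symm.trans ?_
  have h0 : ((Scheme.Modules.pushforward f).obj L).presheaf.germ U (f w) hw (c.app U s) = 0 := by
    rw [← Groth.L21.RR.st_germ c hw s, Subsingleton.elim (K.presheaf.germ U (f w) hw s) 0, map_zero]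
  exact (congrArg (c₀ f L w) h0).trans (map_zero _)

end Push

/-- Injectivity on a stalk kills the kernel there. -/
theorem subsingleton_stalk_kernel {X : Scheme.{u}} {M N : X.Modules} (f : M ⟶ N) {x : X}
    (hf : Function.Injective (st f x)) : Subsingleton ((kernel f).presheaf.stalk x) := by
  refine subsingleton_of_forall_eq 0 fun v => ?_
  refine (Groth.L21.Mod.mono_iff_stalk_injective (kernel.ι f)).1 inferInstance x ?_
  refine (hf ?_ : st (kernel.ι f) x v = st (kernel.ι f) x 0)
  rw [map_zero, map_zero, ← Groth.L21.RR.st_comp, kernel.condition, st, Functor.map_zero]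
  rfl

variable (k : Type u) [Field k] {X : Scheme.{u}} [X.Over (Spec (CommRingCat.of k))]
  [IsProper (X ↘ Spec (CommRingCat.of k))] [AlgebraicGeometry.IsReduced X]

open Classical in
include k in
theorem exists_minimal (hd : topologicalKrullDim X ≤ 1) {F L : X.Modules} (hL : PicF.IsInvertible L)
    (hF : Coh.IsCoh F) (u : F ⟶ L) [Mono u] (hu : SuppClosed (cokernel u))
    (d : ℕ) (hd0 : 0 < d) (h1 : d ≤ h k 1 F) :
    ∃ (J : X.IdealSheafData) (FY : J.subscheme.Modules)
      (uY : FY ⟶ (Scheme.Modules.pullback J.subschemeι).obj L),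
      AlgebraicGeometry.IsReduced J.subscheme ∧ topologicalKrullDim J.subscheme = 1 ∧
      (∀ z : J.subscheme, ∃ w, ¬ IsClosed ({w} : Set J.subscheme) ∧ w ⤳ z) ∧
      Mono uY ∧ Coh.IsCoh FY ∧ d ≤ @h J.subscheme k _ ⟨J.subschemeι ≫ (X ↘ Spec (CommRingCat.of k))⟩ 1 FY ∧
      SuppClosed (cokernel uY) ∧
      (∀ (M : J.subscheme.Modules) (φ : M ⟶ FY), Coh.IsCoh M →
        (∃ η, ¬ IsClosed ({η} : Set J.subscheme) ∧ Function.Surjective (st φ η)) →
          @h J.subscheme k _ ⟨J.subschemeι ≫ (X ↘ Spec (CommRingCat.of k))⟩ 1 (cokernel φ) < d) ∧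
      ∃ ψ : cokernel u ⟶ (Scheme.Modules.pushforward J.subschemeι).obj (cokernel uY), Epi ψ ∧
        cokernel.π u ≫ ψ = (Scheme.Modules.pullbackPushforwardAdjunction J.subschemeι).unit.app L ≫
          (Scheme.Modules.pushforward J.subschemeι).map (cokernel.π uY) := by
  haveI := Groth.L21.RR.isNoetherian_of_proper (X := X) k
  haveI : X.IsSeparated := ⟨by rw [← terminal.comp_from (X ↘ Spec (CommRingCat.of k))]; infer_instance⟩
  let G : Finset X := (Groth.L21.RR.Top.finite_not_isClosed (X := X.toTopCat)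
    (Groth.L21.RR.Top.spec_of_dim_le_one (X := X.toTopCat) hd)).toFinset
  have hG : ∀ {x : X}, ¬ IsClosed ({x} : Set X) → x ∈ G := fun {x} hx =>
    (Set.Finite.mem_toFinset _).2 hx
  let P : Finset X → Prop := fun T => ∃ (Q : X.Modules) (q : F ⟶ Q), Epi q ∧ Coh.IsCoh Q ∧
    d ≤ h k 1 Q ∧
    ∀ η : X, ¬ IsClosed ({η} : Set X) → η ∉ T → Subsingleton (Q.presheaf.stalk η)
  have hG0 : P G := ⟨F, 𝟙 F, inferInstance, hF, h1, fun η hη hηG => absurd (hG hη) hηG⟩
  let n := Nat.find (⟨G.card, G, hG0, rfl⟩ : ∃ n, ∃ T, P T ∧ T.card = n)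
  obtain ⟨T, ⟨Q, q, hq, hQ, hQ1, hsupp⟩, hTn⟩ :=
    Nat.find_spec (⟨G.card, G, hG0, rfl⟩ : ∃ n, ∃ T, P T ∧ T.card = n)
  have hmin : ∀ T', P T' → n ≤ T'.card := fun T' hT' => Nat.find_min' _ ⟨T', hT', rfl⟩
  haveI := hq
  -- minimality: `T` consists of generic points where `Q` is nonzero
  have hTgen : ∀ η ∈ T, ¬ IsClosed ({η} : Set X) ∧ Nontrivial (Q.presheaf.stalk η) := fun η hη => by
    by_contra hne
    have := hmin (T.erase η) ⟨Q, q, hq, hQ, hQ1, fun w hw hwT => by
      by_cases hwη : w = η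
      · subst hwη
        exact not_nontrivial_iff_subsingleton.1 fun hnt => hne ⟨hw, hnt⟩
      · exact hsupp w hw fun hmem => hwT (Finset.mem_erase.2 ⟨hwη, hmem⟩)⟩
    rw [Finset.card_erase_of_mem hη] at this
    have : 0 < T.card := Finset.card_pos.2 ⟨η, hη⟩
    omega
  obtain ⟨η₀, hη₀⟩ : T.Nonempty := by
    by_contra hT
    rw [Finset.not_nonempty_iff_eq_empty] at hT
    have h0 := Groth.L21.RR.h_eq_zero_of_subsingleton k (Groth.L21.RR.subsingleton_HH_of_suppClosed
      (fun w hw => hsupp w hw (by simp [hT]) : SuppClosed Q) 0)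
    rw [h0] at hQ1
    omega
  let Z : Closeds X := ⟨⋃ η ∈ T, closure {η}, T.finite_toSet.isClosed_biUnion fun _ _ => isClosed_closure⟩
  let J := Scheme.IdealSheafData.vanishingIdeal Z
  let ι := J.subschemeι
  haveI hred : AlgebraicGeometry.IsReduced J.subscheme := Groth.L18.isReduced_vanishingIdeal_subscheme Z
  letI : J.subscheme.Over (Spec (CommRingCat.of k)) := ⟨ι ≫ (X ↘ Spec (CommRingCat.of k))⟩
  haveI : IsProper (J.subscheme ↘ Spec (CommRingCat.of k)) :=
    inferInstanceAs (IsProper (ι ≫ (X ↘ Spec (CommRingCat.of k))))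
  haveI := Groth.L21.RR.isNoetherian_of_proper (X := J.subscheme) k
  have hrange : Set.range ι = ⋃ η ∈ T, closure ({η} : Set X) := by
    rw [Scheme.IdealSheafData.range_subschemeι, Scheme.IdealSheafData.coe_support_vanishingIdeal]
    rfl
  have hemb := ι.isClosedEmbedding
  have hcl : ∀ w : J.subscheme, IsClosed ({w} : Set J.subscheme) ↔ IsClosed ({ι w} : Set X) := fun w => by
    rw [← Set.image_singleton, hemb.isClosed_iff_image_isClosed]
  have hmemT : ∀ w : J.subscheme, ¬ IsClosed ({w} : Set J.subscheme) → ι w ∈ T := fun w hw => by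
    have h2 : ι w ∈ Set.range ι := ⟨w, rfl⟩
    rw [hrange, Set.mem_iUnion₂] at h2
    obtain ⟨η, hη, hηw⟩ := h2
    rwa [← maximal_of_not_isClosed hd (fun hc => hw ((hcl w).2 hc)) η (specializes_iff_mem_closure.2 hηw)]
  have hgenY : ∀ z : J.subscheme, ∃ w, ¬ IsClosed ({w} : Set J.subscheme) ∧ w ⤳ z := fun z => by
    have h2 : ι z ∈ Set.range ι := ⟨z, rfl⟩
    rw [hrange, Set.mem_iUnion₂] at h2
    obtain ⟨η, hη, hηz⟩ := h2
    obtain ⟨w, rfl⟩ : η ∈ Set.range ι := by
      rw [hrange]; exact Set.mem_iUnion₂.2 ⟨η, hη, subset_closure rfl⟩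
    exact ⟨w, fun hc => (hTgen _ hη).1 ((hcl w).1 hc),
      hemb.isInducing.specializes_iff.1 (specializes_iff_mem_closure.2 hηz)⟩
  have hdY : topologicalKrullDim J.subscheme ≤ 1 := hemb.isInducing.topologicalKrullDim_le.trans hd
  have hdY1 : topologicalKrullDim J.subscheme = 1 := by
    refine le_antisymm hdY ?_
    obtain ⟨w₀, hw₀⟩ : η₀ ∈ Set.range ι := by
      rw [hrange]; exact Set.mem_iUnion₂.2 ⟨η₀, hη₀, subset_closure rfl⟩
    have hw₀c : ¬ IsClosed ({w₀} : Set J.subscheme) := fun hc => (hTgen _ hη₀).1 (hw₀ ▸ (hcl w₀).1 hc)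
    obtain ⟨z, hz, hzne⟩ : ∃ z, w₀ ⤳ z ∧ w₀ ≠ z := by
      by_contra hh
      push Not at hh
      exact hw₀c (isClosed_of_closure_subset fun z hz => (hh z (specializes_iff_mem_closure.2 hz)).symm)
    let cl : J.subscheme → IrreducibleCloseds J.subscheme := fun a =>
      ⟨closure ({a} : Set J.subscheme), isIrreducible_singleton.closure, isClosed_closure⟩
    have hlt : cl z < cl w₀ := lt_of_le_of_ne (specializes_iff_closure_subset.1 hz) fun e =>
      hzne (inseparable_iff_closure_eq.2 (congrArg (fun C : IrreducibleCloseds J.subscheme =>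
        (C : Set J.subscheme)) e).symm).eq
    exact (Order.LTSeries.length_le_krullDim ((RelSeries.singleton _ (cl z)).snoc (cl w₀) hlt)).trans' (by simp)
  haveI : Coh.IsQCoh L := (Groth.L16.ProperFinite.isCoh_of_isInvertible hL).1
  haveI : Coh.IsQCoh F := hF.1
  let LY := (Scheme.Modules.pullback ι).obj L
  have hLY : PicF.IsInvertible LY := Groth.L18.Ample.isInvertible_pullback ι hL
  let v := (Scheme.Modules.pullback ι).map u
  let FY := Abelian.image v
  let uY : FY ⟶ LY := Abelian.image.ι v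
  let p : (Scheme.Modules.pullback ι).obj F ⟶ FY := Abelian.factorThruImage v
  have hFp : Coh.IsCoh ((Scheme.Modules.pullback ι).obj F) := Groth.L16.AffineBC.isCoh_pullback ι hF
  haveI : Coh.IsQCoh LY := (Groth.L16.ProperFinite.isCoh_of_isInvertible hLY).1
  have hFY : Coh.IsCoh FY := Groth.L16.CohSupport.isCoh_image hFp v
  haveI : Coh.IsQCoh FY := hFY.1
  let unitF := (Scheme.Modules.pullbackPushforwardAdjunction ι).unit.app F
  let unitL := (Scheme.Modules.pullbackPushforwardAdjunction ι).unit.app L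
  haveI : Epi unitF := Groth.L22.FLI.epi_unit ι F
  haveI : Epi unitL := Groth.L22.FLI.epi_unit ι L
  haveI : Epi ((Scheme.Modules.pushforward ι).map p) := Groth.L16.Existence.epi_push ι hFp hFY p
  let q' : F ⟶ (Scheme.Modules.pushforward ι).obj FY := unitF ≫ (Scheme.Modules.pushforward ι).map p
  haveI : Epi q' := epi_comp _ _
  have hq'u : q' ≫ (Scheme.Modules.pushforward ι).map uY = u ≫ unitL := by
    rw [Category.assoc, ← Functor.map_comp, Abelian.image.fac]
    exact ((Scheme.Modules.pullbackPushforwardAdjunction ι).unit.naturality u).symm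
  haveI : Mono ((Scheme.Modules.pushforward ι).map uY) :=
    haveI := Scheme.Modules.pullbackPushforwardAdjunction ι |>.rightAdjoint_preservesLimits
    (Scheme.Modules.pushforward ι).map_mono uY
  -- generic stalks
  have hu' : ∀ η : X, ¬ IsClosed ({η} : Set X) → Function.Surjective (st u η) := fun η hη w => by
    haveI := hu η hη
    exact Groth.L21.RR.exists_of_st_cokernel u η w (Subsingleton.elim _ _)
  have hTne : ∀ η ∈ T, Function.Injective (st q' η) ∧ Function.Injective (st q η) := fun η hη => by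
    obtain ⟨hηc, hQη⟩ := hTgen η hη
    obtain ⟨w, rfl⟩ : η ∈ Set.range ι := by
      rw [hrange]; exact Set.mem_iUnion₂.2 ⟨η, hη, subset_closure rfl⟩
    have hinju : Function.Injective (st u (ι w)) := (Groth.L21.Mod.mono_iff_stalk_injective u).1 inferInstance (ι w)
    obtain ⟨e, he⟩ := exists_frame_stalk hL (ι w)
    obtain ⟨f₀, hf₀⟩ := hu' _ hηc e
    -- a nonzero map out of a line is injective
    have line : ∀ {N : X.Modules} (g : F ⟶ N), (∃ v, st g (ι w) v ≠ 0) → Function.Injective (st g (ι w)) := by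
      intro N g ⟨v, hv⟩
      refine (injective_iff_map_eq_zero (st g (ι w))).2 fun z hz => ?_
      by_contra hz0
      obtain ⟨a, ha⟩ := he.2 (st u (ι w) z)
      obtain ⟨b, hb⟩ := he.2 (st u (ι w) v)
      have ha0 : a ≠ 0 := fun h0 => hz0 (hinju (by rw [← ha, h0, map_zero]; exact zero_smul _ _))
      obtain ⟨a', ha'⟩ := (stalk_isField hd hηc).mul_inv_cancel ha0
      refine hv ?_
      rw [show v = (b * a') • z from hinju (by
        rw [map_smul, ← ha, ← hb]
        change b • e = (b * a') • a • e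
        rw [smul_smul, mul_assoc, mul_comm a' a, ha', mul_one]), map_smul, hz, smul_zero]
    refine ⟨line q' ?_, line q ?_⟩
    · by_contra hall
      push Not at hall
      obtain ⟨eY, heY⟩ := exists_frame_stalk hLY w
      obtain ⟨z, hz⟩ := (c₀_bijective ι LY w).2 eY
      obtain ⟨l, hl⟩ := (Groth.L21.Mod.epi_iff_stalk_surjective unitL).1 inferInstance (ι w) z
      obtain ⟨v, hv⟩ := hu' _ hηc l
      have h2 : st (u ≫ unitL) (ι w) v = z := by rw [Groth.L21.RR.st_comp, hv]; exact hl
      rw [← hq'u, Groth.L21.RR.st_comp, hall, map_zero] at h2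
      have h3 : (1 : J.subscheme.presheaf.stalk w) = 0 := heY.1 (by
        change (1 : J.subscheme.presheaf.stalk w) • eY = (0 : J.subscheme.presheaf.stalk w) • eY
        rw [one_smul, zero_smul, ← hz, ← h2, map_zero])
      exact one_ne_zero h3
    · by_contra hall
      push Not at hall
      exact not_subsingleton (Q.presheaf.stalk (ι w)) (subsingleton_of_forall_eq 0 fun z => by
        obtain ⟨v, rfl⟩ := (Groth.L21.Mod.epi_iff_stalk_surjective q).1 inferInstance (ι w) z
        exact hall v)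
  -- the factorisation through `Q`
  have hfac : kernel.ι q ≫ q' = 0 := by
    refine zero_of_comp_mono ((Scheme.Modules.pushforward ι).map uY)
      (hom_push_eq_zero ι hgenY hLY _ fun w hw => subsingleton_stalk_kernel q ?_)
    exact (hTne _ (hmemT w hw)).2
  let r : Q ⟶ (Scheme.Modules.pushforward ι).obj FY := Abelian.epiDesc q q' hfac
  have hr : q ≫ r = q' := Abelian.comp_epiDesc q q' hfac
  haveI : Epi r := epi_of_epi_fac hr
  have hker : SuppClosed (kernel r) := fun η hη => by
    refine subsingleton_stalk_kernel r fun a b hab => ?_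
    by_cases hηT : η ∈ T
    · obtain ⟨a, rfl⟩ := (Groth.L21.Mod.epi_iff_stalk_surjective q).1 inferInstance η a
      obtain ⟨b, rfl⟩ := (Groth.L21.Mod.epi_iff_stalk_surjective q).1 inferInstance η b
      refine congrArg (st q η) ((hTne η hηT).1 ?_)
      rw [← hr, Groth.L21.RR.st_comp, Groth.L21.RR.st_comp]
      exact hab
    · exact (hsupp η hη hηT).elim a b
  have hnt : d ≤ h k 1 ((Scheme.Modules.pushforward ι).obj FY) := by
    have hS : (ShortComplex.mk (kernel.ι r) r (kernel.condition r)).ShortExact :=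
      { exact := ShortComplex.exact_kernel r }
    haveI := finite_HH' k (Groth.L16.CohClosedPush.isCoh_push (i := ι) hFY) 1
    refine hQ1.trans (LinearMap.finrank_le_finrank_of_injective (f := Groth.L21.RR.hk k r 1) ?_)
    refine (injective_iff_map_eq_zero _).2 fun x hx => ?_
    obtain ⟨y, rfl⟩ := (Groth.L16.CohLinear.exact_hmap_hmap hS 1 x).1 hx
    rw [(Groth.L21.RR.subsingleton_HH_of_suppClosed hker 0).elim y 0, map_zero]
  have hnt' : d ≤ h k 1 FY := hnt.trans_eq (Groth.L21.P1.h_push_affine k ι rfl FY 1)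
  have hsuppY : SuppClosed (cokernel uY) := fun w hw => by
    refine subsingleton_stalk_cokernel uY fun z => ?_
    obtain ⟨z', hz'⟩ := (c₀_bijective ι LY w).2 z
    obtain ⟨l, hl⟩ := (Groth.L21.Mod.epi_iff_stalk_surjective unitL).1 inferInstance (ι w) z'
    obtain ⟨v, hv⟩ := hu' _ (fun hc => hw ((hcl w).2 hc)) l
    refine ⟨c₀ ι FY w (st q' (ι w) v), ?_⟩
    rw [← c₀_st, ← Groth.L21.RR.st_comp, hq'u, Groth.L21.RR.st_comp, hv, ← hz']
    exact congrArg (c₀ ι LY w) hl
  refine ⟨J, FY, uY, hred, hdY1, hgenY, inferInstanceAs (Mono (Abelian.image.ι v)), hFY, hnt', hsuppY, ?_, ?_⟩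
  · rintro M φ hM ⟨w, hw, hsur⟩
    by_contra hns
    rw [not_lt] at hns
    have hC : Coh.IsCoh (cokernel φ) := (Groth.L16.CohKernel.isCoh_kernel_cokernel hM hFY φ).2
    haveI : Coh.IsQCoh (cokernel φ) := hC.1
    haveI : Epi ((Scheme.Modules.pushforward ι).map (cokernel.π φ)) :=
      Groth.L16.Existence.epi_push ι hFY hC (cokernel.π φ)
    have hns' : d ≤ h k 1 ((Scheme.Modules.pushforward ι).obj (cokernel φ)) :=
      hns.trans_eq (Groth.L21.P1.h_push_affine k ι rfl (cokernel φ) 1).symm
    have := hmin (T.erase (ι w)) ⟨_, q' ≫ (Scheme.Modules.pushforward ι).map (cokernel.π φ), epi_comp _ _,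
      Groth.L16.CohClosedPush.isCoh_push (i := ι) hC, hns', fun η hη hηT => by
        by_cases hr' : η ∈ Set.range ι
        · obtain ⟨z, rfl⟩ := hr'
          obtain rfl : z = w := hemb.injective (by
            by_contra hne
            exact hηT (Finset.mem_erase.2 ⟨hne, hmemT z fun hc => hη ((hcl z).1 hc)⟩))
          exact @Function.Injective.subsingleton _ _ _ (c₀_bijective ι (cokernel φ) z).1 (subsingleton_stalk_cokernel φ hsur)
        · exact subsingleton_stalk_push ι _ hr'⟩
    rw [Finset.card_erase_of_mem (hmemT w hw)] at this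
    have h3 : 0 < T.card := Finset.card_pos.2 ⟨_, hmemT w hw⟩
    omega
  · refine ⟨cokernel.desc u (unitL ≫ (Scheme.Modules.pushforward ι).map (cokernel.π uY)) ?_, ?_, cokernel.π_desc _ _ _⟩
    · rw [← Category.assoc, ← hq'u, Category.assoc, ← Functor.map_comp, cokernel.condition, Functor.map_zero,
        comp_zero]
    · haveI : Epi ((Scheme.Modules.pushforward ι).map (cokernel.π uY)) :=
        Groth.L16.Existence.epi_push ι (Groth.L16.ProperFinite.isCoh_of_isInvertible hLY)
          (Groth.L16.CohKernel.isCoh_kernel_cokernel hFY (Groth.L16.ProperFinite.isCoh_of_isInvertible hLY) uY).2 _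
      haveI : Epi (unitL ≫ (Scheme.Modules.pushforward ι).map (cokernel.π uY)) := epi_comp _ _
      exact epi_of_epi_fac (cokernel.π_desc u _ _)

end Groth.L21.RedCurve
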