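import Groth.Agent.L21.RedCurve.Minimal
import Groth.Agent.L21.RR.IdealTwist

/-!
Non-vanishing `H¹` of a twist on a reduced curve bounds the degree on a subcurve.
-/

set_option autoImplicit false
set_option backward.isDefEq.respectTransparency false
set_option linter.style.haveILetI false
universe u

open CategoryTheory CategoryTheory.Limits AlgebraicGeometry TopologicalSpace Opposite

noncomputable section

namespace Groth.L21.RedCurve

open Groth.L21.RR (st SuppClosed h twι twπ finite_HH' tensorStalkEquiv)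
open Groth.L16.CohLinear (hmap)
open Groth.L17.ClosedPush (c₀ c₀_bijective c₀_smul subsingleton_stalk_push)

variable {X : Scheme.{u}}

theorem suppClosed_push {Y : Scheme.{u}} (f : Y ⟶ X) [IsClosedImmersion f] {C : Y.Modules}
    (hC : SuppClosed C) : SuppClosed ((Scheme.Modules.pushforward f).obj C) := fun x hx => by
  by_cases hr : x ∈ Set.range f
  · obtain ⟨y, rfl⟩ := hr
    haveI := hC y fun hc => hx (by
      rw [← Set.image_singleton]; exact f.isClosedEmbedding.isClosedMap _ hc)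
    exact @Function.Injective.subsingleton _ _ _ (c₀_bijective f C y).1 this
  · exact subsingleton_stalk_push f C hr

/-- The image of `L ⊗ I ⟶ L` on stalks. -/
theorem exists_range_twι {L : X.Modules} (hL : PicF.IsInvertible L) (x : X) :
    ∃ ε : L.presheaf.stalk x, ∀ (I : X.IdealSheafData) (V : X.Opens) (hV : IsAffineOpen V) (hxV : x ∈ V),
      (∀ v, ∃ r ∈ (I.ideal ⟨V, hV⟩).map (X.presheaf.germ V x hxV).hom, st (twι L I) x v = r • ε) ∧
      (∀ r ∈ (I.ideal ⟨V, hV⟩).map (X.presheaf.germ V x hxV).hom, ∃ v, st (twι L I) x v = r • ε) := by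
  obtain ⟨e, he⟩ := Groth.L21.RR.exists_frame_stalk hL x
  let T := tensorStalkEquiv (Coh.structureModule X) he
  refine ⟨st (Groth.L00.Tensor.tensorUnitRight L).hom x (T.symm (Groth.L21.RR.one X x)),
    fun I V hV hxV => ⟨fun v => ?_, fun r hr => ?_⟩⟩
  · obtain ⟨r, hr, hrv⟩ := (Groth.L21.RR.range_st_idealModι I hV hxV _).1
      ⟨tensorStalkEquiv (ClSub.idealMod I) he v, rfl⟩
    refine ⟨r, hr, ?_⟩
    rw [← map_smul, ← map_smul T.symm, hrv, ← Groth.L21.RR.tensorStalkEquiv_natural]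
    refine (Groth.L21.RR.st_comp _ _ x v).trans (congrArg _ ?_)
    exact (T.symm_apply_apply _).symm
  · obtain ⟨w, hw⟩ := (Groth.L21.RR.range_st_idealModι I hV hxV (r • Groth.L21.RR.one X x)).2 ⟨r, hr, rfl⟩
    refine ⟨(tensorStalkEquiv (ClSub.idealMod I) he).symm w, ?_⟩
    rw [← map_smul, ← map_smul T.symm, ← hw]
    refine (Groth.L21.RR.st_comp _ _ x _).trans (congrArg _ ?_)
    refine T.injective ?_
    rw [T.apply_symm_apply]
    refine (Groth.L21.RR.tensorStalkEquiv_natural (ClSub.idealModι I) he _).trans ?_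
    rw [LinearEquiv.apply_symm_apply]

/-- A map to a module on `J` killing `L ⊗ I_Z` kills `L ⊗ I_{Z ∩ J}`. -/
theorem twι_sup_comp {L : X.Modules} (hL : PicF.IsInvertible L) (Z J : X.IdealSheafData) {C : J.subscheme.Modules}
    (χ : L ⟶ (Scheme.Modules.pushforward J.subschemeι).obj C) (hχ : twι L Z ≫ χ = 0) :
    twι L (Z ⊔ J) ≫ χ = 0 := by
  refine Groth.L21.Mod.hom_ext_stalk fun x => ?_
  ext v
  rw [Functor.map_zero]
  change st (twι L (Z ⊔ J) ≫ χ) x v = 0
  by_cases hr : x ∈ Set.range J.subschemeι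
  swap
  · exact @Subsingleton.elim _ (subsingleton_stalk_push J.subschemeι C hr) _ _
  obtain ⟨y, rfl⟩ := hr
  obtain ⟨V, hV, hxV, -⟩ := exists_isAffineOpen_mem_and_subset (x := J.subschemeι y) (U := ⊤) trivial
  obtain ⟨ε, hε⟩ := exists_range_twι hL (J.subschemeι y)
  obtain ⟨r, hr, hv⟩ := (hε (Z ⊔ J) V hV hxV).1 v
  rw [Groth.L21.RR.st_comp, hv]
  rw [show (Z ⊔ J).ideal ⟨V, hV⟩ = Z.ideal ⟨V, hV⟩ ⊔ J.ideal ⟨V, hV⟩ from rfl, Ideal.map_sup,
    Submodule.mem_sup] at hr
  obtain ⟨a, ha, b, hb, rfl⟩ := hr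
  obtain ⟨w, hw⟩ := (hε Z V hV hxV).2 a ha
  have hb0 : (J.subschemeι.stalkMap y).hom b = 0 := by
    refine RingHom.mem_ker.1 ((Ideal.map_le_iff_le_comap.2 fun c hc => ?_ :
      (J.ideal ⟨V, hV⟩).map (X.presheaf.germ V _ hxV).hom ≤ RingHom.ker (J.subschemeι.stalkMap y).hom) hb)
    rw [Ideal.mem_comap, RingHom.mem_ker]
    refine (Scheme.Hom.germ_stalkMap_apply J.subschemeι V y hxV c).trans ?_
    rw [← J.ker_subschemeι_app ⟨V, hV⟩, RingHom.mem_ker] at hc
    exact (congrArg _ hc).trans (map_zero _)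
  rw [add_smul, map_add, ← hw, ← Groth.L21.RR.st_comp, hχ]
  rw [st, Functor.map_zero]
  refine (c₀_bijective J.subschemeι C y).1 ?_
  rw [map_zero]
  refine Eq.trans (congrArg _ (zero_add _)) ?_
  rw [map_smul]
  refine (c₀_smul J.subschemeι C y b _).trans ?_
  exact (congrArg (· • _) hb0).trans (zero_smul _ _)

variable (k : Type u) [Field k] [X.Over (Spec (CommRingCat.of k))] [IsProper (X ↘ Spec (CommRingCat.of k))]
  [AlgebraicGeometry.IsReduced X]

/-- The subcurve carrying the obstruction, and the degree bound on it. -/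
theorem exists_subcurve (hd : topologicalKrullDim X ≤ 1) {F L : X.Modules} (hL : PicF.IsInvertible L)
    (hF : Coh.IsCoh F) (u : F ⟶ L) [Mono u] (hu : SuppClosed (cokernel u))
    (h1 : Nontrivial (Coh.HH X F 1)) :
    ∃ (J : X.IdealSheafData) (C : J.subscheme.Modules) (χ : L ⟶ (Scheme.Modules.pushforward J.subschemeι).obj C),
      AlgebraicGeometry.IsReduced J.subscheme ∧ ConnectedSpace J.subscheme ∧ topologicalKrullDim J.subscheme = 1 ∧
      SuppClosed C ∧ Epi χ ∧ u ≫ χ = 0 ∧
      @Curv2.deg k _ J.subscheme ⟨J.subschemeι ≫ (X ↘ Spec (CommRingCat.of k))⟩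
          ((Scheme.Modules.pullback J.subschemeι).obj L) 1 ≤
        -2 * @Curv2.euler k _ J.subscheme ⟨J.subschemeι ≫ (X ↘ Spec (CommRingCat.of k))⟩
            (Coh.structureModule J.subscheme) +
          h k 0 ((Scheme.Modules.pushforward J.subschemeι).obj C) := by
  haveI : X.IsSeparated := ⟨by rw [← terminal.comp_from (X ↘ Spec (CommRingCat.of k))]; infer_instance⟩
  obtain ⟨J, FY, uY, hred, hdY, hgen, hmono, hFY, hnt, hsupp, hmin, ψ, hψ, hψu⟩ :=
    exists_minimal k hd hL hF u hu 1 one_pos (by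
      haveI := Groth.L21.RR.finite_HH' k hF 1
      haveI := h1
      exact Module.finrank_pos)
  haveI := hred
  haveI := hmono
  haveI := hψ
  letI : J.subscheme.Over (Spec (CommRingCat.of k)) := ⟨J.subschemeι ≫ (X ↘ Spec (CommRingCat.of k))⟩
  haveI : IsProper (J.subscheme ↘ Spec (CommRingCat.of k)) :=
    inferInstanceAs (IsProper (J.subschemeι ≫ (X ↘ Spec (CommRingCat.of k))))
  haveI := Groth.L21.RR.isNoetherian_of_proper (X := J.subscheme) k
  have hLY := Groth.L18.Ample.isInvertible_pullback J.subschemeι hL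
  have hLYc := Groth.L16.ProperFinite.isCoh_of_isInvertible hLY
  haveI := finite_HH' k hFY 1
  obtain ⟨hb0, hb1, hconn⟩ := core k hdY.le hgen hLY hFY uY
    (Module.nontrivial_of_finrank_pos (R := k) (show 0 < h k 1 FY by omega)) fun M φ hM hη => by
      refine surjective_hmap_one_of_cokernel hdY.le φ ?_
      haveI := finite_HH' k (Groth.L16.CohKernel.isCoh_kernel_cokernel hM hFY φ).2 1
      exact Module.finrank_zero_iff.1 (Nat.lt_one_iff.1 (hmin M φ hM hη))
  have hC := (Groth.L16.CohKernel.isCoh_kernel_cokernel hFY hLYc uY).2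
  refine ⟨J, cokernel uY, cokernel.π u ≫ ψ, hred, hconn, hdY, hsupp, epi_comp _ _, ?_, ?_⟩
  · rw [← Category.assoc, cokernel.condition, zero_comp]
  haveI : Coh.IsQCoh (cokernel uY) := hC.1
  have hS : (ShortComplex.mk uY (cokernel.π uY) (cokernel.condition uY)).ShortExact :=
    { exact := ShortComplex.exact_cokernel uY }
  have hadd := Groth.L21.RR.euler_add k hdY.le hS hFY hLYc hC
  rw [Groth.L21.RR.euler_eq_h0_of_suppClosed k hsupp] at hadd
  rw [Groth.L21.P1.h_push_affine k J.subschemeι rfl (cokernel uY) 0]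
  change Curv2.euler k J.subscheme _ - (1 : ℕ) * Curv2.euler k J.subscheme (Coh.structureModule J.subscheme) ≤ _
  rw [hadd]
  simp only [Groth.L21.RR.euler_eq k hdY.le]
  omega

/-- The degree bound for the twist by the ideal of a finite subscheme. -/
theorem exists_subcurve_twist (hd : topologicalKrullDim X ≤ 1) {L : X.Modules} (hL : PicF.IsInvertible L)
    (Z : X.IdealSheafData) (hZ : topologicalKrullDim (Z.support : Set X) ≤ 0)
    (h1 : Nontrivial (Coh.HH X (CohB1.tensorMod L (ClSub.idealMod Z)) 1)) :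
    ∃ J : X.IdealSheafData,
      AlgebraicGeometry.IsReduced J.subscheme ∧ ConnectedSpace J.subscheme ∧ topologicalKrullDim J.subscheme = 1 ∧
      @Curv2.deg k _ J.subscheme ⟨J.subschemeι ≫ (X ↘ Spec (CommRingCat.of k))⟩
          ((Scheme.Modules.pullback J.subschemeι).obj L) 1 ≤
        -2 * @Curv2.euler k _ J.subscheme ⟨J.subschemeι ≫ (X ↘ Spec (CommRingCat.of k))⟩
            (Coh.structureModule J.subscheme) +
          h k 0 (ClSub.quotMod (Z ⊔ J)) := by
  haveI := Groth.L21.RR.isNoetherian_of_proper (X := X) k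
  have hS := Groth.L21.RR.shortExact_tw Z hL
  haveI : Mono (twι L Z) := hS.mono_f
  have hu : SuppClosed (cokernel (twι L Z)) := fun x hx => by
    let e : cokernel (twι L Z) ≅ CohB1.tensorMod L (ClSub.quotMod Z) :=
      (cokernelIsCokernel (twι L Z)).coconePointUniqueUpToIso hS.gIsCokernel
    exact @Equiv.subsingleton _ _ ((Groth.L00.Stk.F X x).mapIso e).toLinearEquiv.toEquiv
      (Groth.L21.RR.suppClosed_tensor hL (Groth.L21.RR.suppClosed_quotMod Z hZ) x hx)
  obtain ⟨J, C, χ, hred, hconn, hdim, hC, hχ, hχ0, hbound⟩ :=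
    exists_subcurve k hd hL (Groth.L21.RR.isCoh_twist Z hL) (twι L Z) hu h1
  refine ⟨J, hred, hconn, hdim, hbound.trans ?_⟩
  gcongr
  haveI := hχ
  have hsub : ((Z ⊔ J).support : Set X) ⊆ Z.support := Scheme.IdealSheafData.support_antitone le_sup_left
  have hI : topologicalKrullDim ((Z ⊔ J).support : Set X) ≤ 0 :=
    (Topology.IsEmbedding.inclusion hsub).isInducing.topologicalKrullDim_le.trans hZ
  have hQ := Groth.L21.RR.suppClosed_quotMod (Z ⊔ J) hI
  have hS' := Groth.L21.RR.shortExact_tw (Z ⊔ J) hL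
  obtain ⟨ψ, hψ⟩ := CokernelCofork.IsColimit.desc' hS'.gIsCokernel χ (twι_sup_comp hL Z J χ hχ0)
  change twπ L (Z ⊔ J) ≫ ψ = χ at hψ
  haveI : Epi ψ := epi_of_epi_fac hψ
  have hT := Groth.L21.RR.suppClosed_tensor hL hQ
  rw [← Groth.L21.RR.h0_tensor k hL hQ]
  haveI := finite_HH' k (Groth.L21.RR.isCoh_twistQuot (Z ⊔ J) hL) 0
  refine LinearMap.finrank_le_finrank_of_surjective (f := Groth.L21.RR.hk k ψ 0) fun z => ?_
  have hK : (ShortComplex.mk (kernel.ι ψ) ψ (kernel.condition ψ)).ShortExact :=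
    { exact := ShortComplex.exact_kernel ψ }
  have hker : SuppClosed (kernel ψ) := fun x hx => by
    exact @Function.Injective.subsingleton _ _ _
      ((Groth.L21.Mod.mono_iff_stalk_injective (kernel.ι ψ)).1 inferInstance x) (hT x hx)
  exact (Groth.L16.CohLinear.exact_hmap_delta hK 0 z).1
    ((Groth.L21.RR.subsingleton_HH_of_suppClosed hker 0).elim _ _)

end Groth.L21.RedCurve
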