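import Groth.Agent.L21.RedCurve.Basic
import Groth.Agent.L16.Connected.Fibre
import Groth.Agent.L21.RR.Equality

/-!
A minimal non-vanishing `H¹` on a reduced curve: bound on sections, connectedness.
-/

set_option autoImplicit false
set_option backward.isDefEq.respectTransparency false
set_option linter.style.haveILetI false
universe u

open CategoryTheory CategoryTheory.Limits AlgebraicGeometry TopologicalSpace Opposite

noncomputable section

namespace Groth.L21.RedCurve

open Groth.L21.RR (st SuppClosed e0 e0_smul e0_hmap h hk finite_HH' oneSec exists_hom_of_hh0 hom_ext_one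
  exists_frame_stalk)
open Groth.L16.CohLinear (hmap hmap_comp)

variable {X : Scheme.{u}}

/-- In a line over a field a nonzero element generates. -/
theorem surjective_st_of_ne_zero [AlgebraicGeometry.IsNoetherian X] [AlgebraicGeometry.IsReduced X]
    (hd : topologicalKrullDim X ≤ 1) {M F L : X.Modules} (hL : PicF.IsInvertible L) (u : F ⟶ L) [Mono u]
    (φ : M ⟶ F) {η : X} (hη : ¬ IsClosed ({η} : Set X)) (w : M.presheaf.stalk η) (hw : st φ η w ≠ 0) :
    Function.Surjective (st φ η) := by
  have hinj : Function.Injective (st u η) := (Groth.L21.Mod.mono_iff_stalk_injective u).1 inferInstance η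
  obtain ⟨e, he⟩ := exists_frame_stalk hL η
  obtain ⟨b, hb⟩ := he.2 (st u η (st φ η w))
  have hb0 : b ≠ 0 := fun h0 => hw (hinj (by rw [← hb, h0, map_zero]; exact zero_smul _ _))
  obtain ⟨b', hb'⟩ := (stalk_isField hd hη).mul_inv_cancel hb0
  intro v
  obtain ⟨c, hc⟩ := he.2 (st u η v)
  refine ⟨(c * b') • w, hinj ?_⟩
  rw [map_smul, map_smul, ← hb, ← hc]
  change (c * b') • b • e = c • e
  rw [smul_smul, mul_assoc, mul_comm b' b, hb', mul_one]

variable (k : Type u) [Field k] [X.Over (Spec (CommRingCat.of k))] [IsProper (X ↘ Spec (CommRingCat.of k))]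

/-- If `H¹(M) ≠ 0` and non-zero sections are surjective on `H¹`, then `h⁰(M) ≤ h¹(O)`. -/
theorem h0_le_genus {M : X.Modules}
    (hM : Coh.IsCoh M) (hsur : ∀ φ : Coh.structureModule X ⟶ M, φ ≠ 0 → Function.Surjective (hmap φ 1))
    (h1 : Nontrivial (Coh.HH X M 1)) : h k 0 M ≤ h k 1 (Coh.structureModule X) := by
  haveI := Groth.L21.RR.isNoetherian_of_proper (X := X) k
  haveI := finite_HH' k hM 1
  haveI := finite_HH' k hM 0
  haveI := finite_HH' k (Groth.L16.CohClosedPush.isCoh_structure (X := X)) 1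
  obtain ⟨y, hy⟩ := exists_ne (0 : Coh.HH X M 1)
  obtain ⟨f, hf⟩ : ∃ f : Module.Dual k (Coh.HH X M 1), f y ≠ 0 := by
    by_contra hall
    push Not at hall
    exact hy ((Module.forall_dual_apply_eq_zero_iff k y).1 hall)
  let one0 : Coh.HH X (Coh.structureModule X) 0 := (e0 _).symm (oneSec X)
  choose φ hφ using fun x : Coh.HH X M 0 => exists_hom_of_hh0 x
  have hφ0 : ∀ x, hmap (φ x) 0 one0 = x := fun x => (e0 M).injective (by
    rw [e0_hmap, AddEquiv.apply_symm_apply, hφ x])
  have huniq : ∀ (x : Coh.HH X M 0) (ψ : Coh.structureModule X ⟶ M), hmap ψ 0 one0 = x → φ x = ψ :=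
    fun x ψ hψ => hom_ext_one (by
      rw [hφ x, ← hψ, e0_hmap, AddEquiv.apply_symm_apply])
  let D : Coh.HH X M 0 →ₗ[k] Module.Dual k (Coh.HH X (Coh.structureModule X) 1) :=
    { toFun := fun x => f ∘ₗ hk k (φ x) 1
      map_add' := fun x x' => LinearMap.ext fun z => by
        have h : φ (x + x') = φ x + φ x' := huniq _ _ (by rw [Groth.L21.RR.hmap_add, hφ0, hφ0])
        change f (hmap (φ (x + x')) 1 z) = f (hmap (φ x) 1 z) + f (hmap (φ x') 1 z)
        rw [h, Groth.L21.RR.hmap_add, map_add]
      map_smul' := fun c x => LinearMap.ext fun z => by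
        let ψ : Coh.structureModule X ⟶ M :=
          scal (Coh.structureModule X) (Coh.toGlobal (X ↘ Spec (CommRingCat.of k)) c) ≫ φ x
        have hc : ∀ (n : ℕ) (z : Coh.HH X (Coh.structureModule X) n), hmap ψ n z = c • hmap (φ x) n z := by
          intro n z
          refine (hmap_comp _ _ n z).trans ?_
          rw [hmap_scal]
          exact map_smul (hk k (φ x) n) c z
        have h : φ (c • x) = ψ := huniq _ _ (by rw [hc, hφ0])
        change f (hmap (φ (c • x)) 1 z) = c • f (hmap (φ x) 1 z)
        rw [h, hc, map_smul] }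
  have hD : Function.Injective D := by
    refine (injective_iff_map_eq_zero D).2 fun x hx => ?_
    by_contra hx0
    have hne : φ x ≠ 0 := fun h0 => hx0 (by rw [← hφ0 x, h0, Groth.L21.RR.hmap_zero])
    obtain ⟨z, hz⟩ := hsur (φ x) hne y
    exact hf (hz ▸ (LinearMap.congr_fun hx z))
  have h2 := LinearMap.finrank_le_finrank_of_injective hD
  rwa [Subspace.dual_finrank_eq] at h2

variable [AlgebraicGeometry.IsReduced X]

/-- The minimal situation: sections are few, constants are few, the space is connected. -/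
theorem core (hd : topologicalKrullDim X ≤ 1) (hgen : ∀ z : X, ∃ w, ¬ IsClosed ({w} : Set X) ∧ w ⤳ z)
    {F L : X.Modules} (hL : PicF.IsInvertible L) (hF : Coh.IsCoh F) (u : F ⟶ L) [Mono u]
    (h1 : Nontrivial (Coh.HH X F 1))
    (hmin : ∀ (M : X.Modules) (φ : M ⟶ F), Coh.IsCoh M →
      (∃ η : X, ¬ IsClosed ({η} : Set X) ∧ Function.Surjective (st φ η)) → Function.Surjective (hmap φ 1)) :
    h k 0 F ≤ h k 1 (Coh.structureModule X) ∧ h k 0 (Coh.structureModule X) ≤ h k 1 F ∧ ConnectedSpace X := by
  haveI := Groth.L21.RR.isNoetherian_of_proper (X := X) k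
  haveI := finite_HH' k hF 1
  have hO := Groth.L16.CohClosedPush.isCoh_structure (X := X)
  haveI := finite_HH' k hO 0
  refine ⟨h0_le_genus k hF (fun φ hφ => ?_) h1, ?_⟩
  · by_contra hns
    refine hns (hmin _ φ hO ?_)
    by_contra hno
    push Not at hno
    refine hφ (zero_of_comp_mono u (hom_eq_zero hgen hL (φ ≫ u) fun w hw v => ?_))
    by_contra hne
    exact hno w hw (surjective_st_of_ne_zero hd hL u φ hw v fun h0 => hne (by
      rw [Groth.L21.RR.st_comp, h0, map_zero]))
  -- every nonzero function acts surjectively, hence bijectively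
  have hsc : ∀ a : Coh.Γtop X, a ≠ 0 → Function.Surjective fun x : Coh.HH X F 1 => a • x := fun a ha => by
    obtain ⟨η, hη, haη⟩ : ∃ η : X, ¬ IsClosed ({η} : Set X) ∧
        X.presheaf.germ ⊤ η trivial (show Γ(X, ⊤) from a) ≠ 0 := by
      by_contra hall
      push Not at hall
      exact ha (section_eq_zero hgen (show Γ(X, ⊤) from a) fun w _ hw => hall w hw)
    obtain ⟨b, hb⟩ := (stalk_isField hd hη).mul_inv_cancel haη
    have hs := hmin F (scal F a) hF ⟨η, hη, fun v => ⟨b • v, by
      rw [st_scal, smul_smul, hb, one_smul]⟩⟩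
    intro y
    obtain ⟨x, hx⟩ := hs y
    exact ⟨x, (hmap_scal F a 1 x).symm.trans hx⟩
  have hinj : ∀ a : Coh.Γtop X, a ≠ 0 → Function.Injective fun x : Coh.HH X F 1 => a • x := fun a ha => by
    have hlin : ∀ x, hk k (scal F a) 1 x = a • x := fun x => hmap_scal F a 1 x
    intro x y hxy
    refine (LinearMap.injective_iff_surjective (f := hk k (scal F a) 1)).2 (fun z => ?_)
      ((hlin x).trans (hxy.trans (hlin y).symm))
    obtain ⟨w, hw⟩ := hsc a ha z
    exact ⟨w, (hlin w).trans hw⟩
  obtain ⟨v, hv⟩ := exists_ne (0 : Coh.HH X F 1)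
  have hdom : ∀ a b : Coh.Γtop X, a * b = 0 → a = 0 ∨ b = 0 := fun a b hab => by
    by_contra hne
    push Not at hne
    exact hv (hinj b hne.2 (hinj a hne.1 (by
      dsimp only
      rw [smul_zero, smul_zero, ← mul_smul, hab, zero_smul])))
  let E : Coh.HH X (Coh.structureModule X) 0 →ₗ[k] Coh.HH X F 1 :=
    { toFun := fun x => (show Coh.Γtop X from e0 _ x) • v
      map_add' := fun x y => by
        rw [map_add]
        exact add_smul (show Coh.Γtop X from e0 _ x) (show Coh.Γtop X from e0 _ y) v
      map_smul' := fun c x => by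
        rw [e0_smul]
        exact mul_smul (Coh.toGlobal (X ↘ Spec (CommRingCat.of k)) c) (show Coh.Γtop X from e0 _ x) v }
  have hE : Function.Injective E := (injective_iff_map_eq_zero E).2 fun x hx => by
    by_contra hne
    exact hv (hinj (show Coh.Γtop X from e0 _ x)
      (fun h0 => hne ((e0 _).injective (h0.trans (map_zero (e0 (Coh.structureModule X))).symm)))
      (hx.trans (smul_zero _).symm))
  refine ⟨LinearMap.finrank_le_finrank_of_injective hE, ?_⟩
  haveI : Nontrivial Γ(X, ⊤) := nontrivial_of_ne (1 : Γ(X, ⊤)) 0 fun h10 => hv (by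
    have h2 : ((1 : Coh.Γtop X)) • v = (0 : Coh.Γtop X) • v := congrArg (fun a : Coh.Γtop X => a • v) h10
    rwa [one_smul, zero_smul] at h2)
  have hfield : ∀ a : Γ(X, ⊤), a ≠ 0 → IsUnit a := fun a ha => by
    let m : Coh.HH X (Coh.structureModule X) 0 →ₗ[k] Coh.HH X (Coh.structureModule X) 0 :=
      hk k (scal (Coh.structureModule X) a) 0
    have hm : ∀ x, e0 _ (m x) = (show Γ(X, ⊤) from a * (show Γ(X, ⊤) from e0 _ x)) := fun x => by
      change e0 _ (hmap (scal _ _) 0 x) = _
      rw [e0_hmap, scal_app]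
      exact congrArg (· * (show Γ(X, ⊤) from e0 _ x))
        (show Coh.resTop X (op ⊤) a = a from congr($(X.ringCatSheaf.obj.map_id (op ⊤)) a))
    have hmi : Function.Injective m := (injective_iff_map_eq_zero m).2 fun x hx => by
      have h2 := hm x
      rw [hx, map_zero] at h2
      exact (e0 _).injective (((hdom a _ h2.symm).resolve_left ha).trans (map_zero _).symm)
    obtain ⟨x, hx⟩ := (LinearMap.injective_iff_surjective.1 hmi) ((e0 _).symm (oneSec X))
    have h2 := hm x
    rw [hx, AddEquiv.apply_symm_apply] at h2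
    exact IsUnit.of_mul_eq_one (show Γ(X, ⊤) from e0 _ x) h2.symm
  haveI : IsLocalRing Γ(X, ⊤) := IsLocalRing.of_isUnit_or_isUnit_one_sub_self fun a => by
    by_cases ha : a = 0
    · exact Or.inr (by rw [ha, sub_zero]; exact isUnit_one)
    · exact Or.inl (hfield a ha)
  exact Groth.L16.Connected.connectedSpace_of_isLocalRing

end Groth.L21.RedCurve
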