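import Groth.Agent.L21.RedCurve.VeryAmple
import Groth.Agent.L21.RR.VeryAmpleField
import Groth.Agent.L21.RR.BaseChange

/-!
Very ampleness on curves over any field, from a reduced base change to an algebraically closed field.
-/

set_option autoImplicit false
set_option backward.isDefEq.respectTransparency false
set_option linter.style.haveILetI false
universe u

open CategoryTheory CategoryTheory.Limits AlgebraicGeometry TopologicalSpace Opposite

noncomputable section

namespace Groth.L21.RedCurve.VA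

open Groth.L21.RR

variable {k : Type u} [Field k] {X : Scheme.{u}} [X.Over (Spec (CommRingCat.of k))]
  [IsProper (X ↘ Spec (CommRingCat.of k))]
  {K : Type u} [Field K] [IsAlgClosed K] [Algebra k K] {Y : Scheme.{u}} [Y.Over (Spec (CommRingCat.of K))]
  [IsProper (Y ↘ Spec (CommRingCat.of K))] (g : Y ⟶ X)
  (sq : IsPullback g (Y ↘ Spec (CommRingCat.of K)) (X ↘ Spec (CommRingCat.of k))
    (Spec.map (CommRingCat.ofHom (algebraMap k K))))

include sq in
/-- Very ampleness descends from the algebraically closed field. -/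
theorem exists_closedImmersion_of_big_bc [AlgebraicGeometry.IsReduced Y] [Nonempty Y]
    (hdY : topologicalKrullDim Y ≤ 1) {L : X.Modules} (hL : PicF.IsInvertible L)
    (he : Big K ((Scheme.Modules.pullback g).obj L)) :
    ∃ (n : ℕ) (r : X ⟶ Groth.L18.PUP.P n k), IsClosedImmersion r ∧
      r ≫ Groth.L18.PUP.pr n k = X ↘ Spec (CommRingCat.of k) ∧
      Nonempty ((Scheme.Modules.pullback r).obj (Groth.L18.PUP.O1 n k) ≅ L) := by
  haveI := isNoetherian_of_proper (X := X) k
  haveI := isNoetherian_of_proper (X := Y) K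
  haveI := Groth.L21.Extend.isQCoh_of_isInvertible hL
  have hLc := Groth.L16.ProperFinite.isCoh_of_isInvertible hL
  have hLK := Groth.L18.Ample.isInvertible_pullback g hL
  haveI := finite_HH' k hLc 0
  have hne : 0 < Module.finrank k (Coh.HH X L 0) := by
    obtain ⟨m, S, hS⟩ := exists_span_fin K hdY hLK he
    haveI := finite_HH' K (Groth.L16.ProperFinite.isCoh_of_isInvertible hLK) 0
    rw [show Module.finrank k (Coh.HH X L 0) = Module.finrank K (Coh.HH Y ((Scheme.Modules.pullback g).obj L) 0) from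
      (h_pullback g sq hLc 0).symm]
    by_contra h0
    haveI : Subsingleton (Coh.HH Y ((Scheme.Modules.pullback g).obj L) 0) :=
      Module.finrank_zero_iff.1 (Nat.eq_zero_of_not_pos h0)
    obtain ⟨z₀⟩ := (inferInstance : Nonempty Y)
    obtain ⟨z, hz, -⟩ := exists_closed_specialization z₀
    obtain ⟨j, hj⟩ := exists_germ_not_mem K hdY hLK he hS hz
    haveI : Subsingleton Γ((Scheme.Modules.pullback g).obj L, ⊤) := (e0 _).symm.toEquiv.subsingleton
    exact hj (by rw [Subsingleton.elim (S j) 0, map_zero]; exact Submodule.zero_mem _)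
  obtain ⟨n, hn⟩ := Nat.exists_eq_succ_of_ne_zero hne.ne'
  let b := Module.finBasisOfFinrankEq k (Coh.HH X L 0) hn
  let S : Fin (n + 1) → Γ(L, ⊤) := fun i => e0 L (b i)
  have hspan : ∀ s : Γ(L, ⊤), ∃ c : Fin (n + 1) → k,
      s = ∑ j, ProjUP.toGlobal (X ↘ Spec (CommRingCat.of k)) (c j) • S j := fun s => by
    refine ⟨fun j => b.repr ((e0 L).symm s) j, ?_⟩
    conv_lhs => rw [← (e0 L).apply_symm_apply s, ← b.sum_repr ((e0 L).symm s)]
    rw [map_sum]
    exact Finset.sum_congr rfl fun j _ => e0_smul k L _ _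
  have hspanK := fun t => exists_coeff_pullback g sq hspan t
  have hgenK := Groth.L21.RedCurve.VA.generatedBy_of_span K hdY hLK he hspanK
  obtain ⟨rK, hrK, τK, hτK⟩ := Groth.L18.PUP.exists_hom (Y ↘ Spec (CommRingCat.of K)) _ hLK _ hgenK
  obtain ⟨r, hr, τ, hτ⟩ := Groth.L18.PUP.exists_hom (X ↘ Spec (CommRingCat.of k)) L hL S
    (generatedBy_of_pullback g sq hL hgenK)
  haveI := Groth.L21.RedCurve.VA.isClosedImmersion_of_span K hdY hLK he hspanK rK hrK τK hτK
  exact ⟨n, r, isClosedImmersion_of_pullback g sq r hr τ hτ rK hrK τK hτK, hr, ⟨τ⟩⟩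

end Groth.L21.RedCurve.VA
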